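import Groth.Agent.L11.Asymp.Apps
import Groth.Agent.L17.GenericTrivFree
import Groth.Agent.L17.IdealMulSec
import Groth.Agent.L03.ShStab.QuadricCoh

/-!
# Asymptotic cohomological functions with coefficients in a coherent module
-/

set_option autoImplicit false
set_option backward.isDefEq.respectTransparency false
set_option backward.isDefEq.respectTransparency.types false
set_option linter.style.haveILetI false
set_option linter.unusedSectionVars false

universe u

open CategoryTheory CategoryTheory.Limits AlgebraicGeometry TopologicalSpace Filter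
open scoped Topology

noncomputable section

namespace Groth.L11.Asymp

open Groth.L16 Groth.L22.Nef Groth.L22.Inter Groth.L03.Euler Groth.L22.Big Groth.L11.NumOrth
open Groth.L00.Tensor (tensorIso tensorAssoc tensorComm tensorUnitRight tensorUnitLeft tensorRightF)

attribute [local instance] Groth.L08.Cube.clMonoid

variable (k : Type u) [Field k] [IsAlgClosed k] {X : Scheme.{u}} [X.Over (Spec (CommRingCat.of k))]
  [IsProper (X ↘ Spec (CommRingCat.of k))] [IsIntegral X] (hproj : ∃ A : X.Modules, CohB1.IsAmple A)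
  {n : ℕ} (hn : topologicalKrullDim X = n) {L : X.Modules} (hL : PicF.IsInvertible L)

include hn in
theorem hall (T : Set X) : topologicalKrullDim T ≤ (n : WithBot ℕ∞) :=
  Topology.IsInducing.subtypeVal.topologicalKrullDim_le.trans hn.le

include hproj hn hL in
/-- Coefficients with small support are of lower order. -/
theorem exists_low {Q : X.Modules} (hQ : Coh.IsCoh Q)
    (hd : topologicalKrullDim (CohB1.support Q) + 1 ≤ (n : WithBot ℕ∞)) :
    ∃ K : ℝ, 0 ≤ K ∧ ∀ (m q hd' : ℕ), hd' = Groth.L11.Asymp.hd k q (CohB1.tensorMod Q (CohB1.tensorPow L m)) →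
      (hd' : ℝ) ≤ bd n K 0 m := by
  haveI := Groth.L21.RR.isNoetherian_of_proper (X := X) k
  cases n with
  | zero =>
    refine ⟨0, le_rfl, fun m q h e => ?_⟩
    rw [e, hd_of_isZero k (isZero_tensor (isZero_of_dim hd) _)]
    simp [bd]
  | succ d =>
    obtain ⟨N₀, i, hi', hi⟩ := exists_proj k hproj
    haveI := hi'
    have hLi : ∀ j : Fin 1, PicF.IsInvertible ((![L] : Fin 1 → X.Modules) j) := fun j => by
      rw [Subsingleton.elim j 0]; exact hL
    obtain ⟨a, b, hLe, hP⟩ := exists_eff k i hi ![L] hLi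
    obtain ⟨C, hC⟩ := exists_small k i hi (hP _ NT.unit) ![L] hLe hQ (dim_succ_iff.1 hd)
    refine ⟨|((((2 * b : ℕ) : ℚ) ^ d * dg k (OX i 1) d Q : ℚ) : ℝ)| + C, by positivity, fun m q h e => ?_⟩
    rw [e]
    have h1 := hC m (CohB1.tensorPow L m)
      (inWord_of_cl k (fun _ => m) (by simp) (by simp [mon, cl_pow])) q
    refine h1.trans ?_
    rw [bd, Nat.add_sub_cancel, Nat.cast_zero, zero_mul, zero_div, add_zero]
    refine le_trans ?_ (le_mul_of_one_le_left (by positivity) (by simp))
    rw [add_mul]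
    refine add_le_add (mul_le_mul_of_nonneg_right (le_abs_self _) (by positivity)) ?_
    exact div_le_self (by positivity) (le_add_of_nonneg_left (Nat.cast_nonneg m))

include hproj hn hL in
/-- The normalised dimensions with coefficients are bounded. -/
theorem exists_sqF_le {F : X.Modules} (hF : Coh.IsCoh F) (q : ℕ) :
    ∃ B, ∀ᶠ m in atTop, sq k n q (fun m => CohB1.tensorMod F (CohB1.tensorPow L m)) m ≤ B := by
  haveI := Groth.L21.RR.isNoetherian_of_proper (X := X) k
  obtain ⟨N₀, i, hi', hi⟩ := exists_proj k hproj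
  haveI := hi'
  have hLi : ∀ j : Fin 1, PicF.IsInvertible ((![L] : Fin 1 → X.Modules) j) := fun j => by
    rw [Subsingleton.elim j 0]; exact hL
  obtain ⟨a, b, hLe, hP⟩ := exists_eff k i hi ![L] hLi
  obtain ⟨C, hC⟩ := exists_small k i hi (hP _ NT.unit) ![L] hLe hF (hall hn _)
  set K := ((((2 * b : ℕ) : ℚ) ^ n * dg k (OX i 1) n F : ℚ) : ℝ)
  refine ⟨(|K| + C) * 2 ^ n * n.factorial, ?_⟩
  filter_upwards [eventually_gt_atTop 0] with m hm
  have h1 := hC m (CohB1.tensorPow L m)
    (inWord_of_cl k (fun _ => m) (by simp) (by simp [mon, cl_pow])) q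
  have hm' : (1 : ℝ) ≤ m := by exact_mod_cast hm
  have h2 : (hd k q (CohB1.tensorMod F (CohB1.tensorPow L m)) : ℝ) ≤ (|K| + C) * 2 ^ n * (m : ℝ) ^ n := by
    refine h1.trans ?_
    rw [mul_assoc, ← mul_pow, add_mul]
    have hp : ((m : ℝ) + 1) ^ n ≤ (2 * (m : ℝ)) ^ n := pow_le_pow_left₀ (by positivity) (by linarith) n
    refine add_le_add ((mul_le_mul_of_nonneg_right (le_abs_self K) (by positivity)).trans
      (mul_le_mul_of_nonneg_left hp (abs_nonneg K))) ?_
    exact (div_le_self (by positivity) (le_add_of_nonneg_left (Nat.cast_nonneg m))).trans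
      (mul_le_mul_of_nonneg_left hp (Nat.cast_nonneg C))
  rw [sq, div_le_iff₀ (by positivity)]
  refine (mul_le_mul_of_nonneg_right h2 (by positivity)).trans (le_of_eq ?_)
  ring

include hproj hn hL in
/-- A comparison in lower order gives equal upper limits. -/
theorem hhatF_eq_of_bound {A B : X.Modules} (hB : Coh.IsCoh B) (q : ℕ) {K : ℝ}
    (h : ∀ m : ℕ, |(hd k q (CohB1.tensorMod A (CohB1.tensorPow L m)) : ℝ) -
      hd k q (CohB1.tensorMod B (CohB1.tensorPow L m))| ≤ bd n K 0 m) :
    W4c5asymptcohfn.hhatF k X n q A L = W4c5asymptcohfn.hhatF k X n q B L := by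
  rw [hhatF_eq, hhatF_eq, ← sub_eq_zero]
  refine abs_eq_zero.1 (le_antisymm ?_ (abs_nonneg _))
  refine (abs_limsup_sq_sub_le k (n := n) (K := K) (C := 0) (s := 1) le_rfl (α := 0) (β := 1)
    (exists_sqF_le k hproj hn hL hB q) (Eventually.of_forall fun m => ?_)).trans (le_of_eq (by simp))
  simpa using h m

include hproj hn hL in
/-- A small submodule does not matter. -/
theorem hhatF_mid_eq_right {S : ShortComplex X.Modules} (hS : S.ShortExact) (h₁ : Coh.IsCoh S.X₁)
    (h₂ : Coh.IsCoh S.X₂) (h₃ : Coh.IsCoh S.X₃)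
    (hd : topologicalKrullDim (CohB1.support S.X₁) + 1 ≤ (n : WithBot ℕ∞)) (q : ℕ) :
    W4c5asymptcohfn.hhatF k X n q S.X₂ L = W4c5asymptcohfn.hhatF k X n q S.X₃ L := by
  haveI := Groth.L21.RR.isNoetherian_of_proper (X := X) k
  obtain ⟨K, -, hK⟩ := exists_low k hproj hn hL h₁ hd
  refine hhatF_eq_of_bound k hproj hn hL h₃ q (K := 2 * K) fun m => ?_
  have hb : bd n (2 * K) 0 m = 2 * bd n K 0 m := by simp only [bd, Nat.cast_zero, zero_mul, zero_div, add_zero]; ring
  have hLm := Groth.L18.Ample.isInvertible_tensorPow hL m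
  have a := (Nat.cast_le (α := ℝ)).2 (hd_mid_le k (shortExact_tensor hLm hS) (isCoh_tensor hLm h₁)
    (isCoh_tensor hLm h₂) (isCoh_tensor hLm h₃) q)
  have b := (Nat.cast_le (α := ℝ)).2 (hd_right_le k (shortExact_tensor hLm hS) (isCoh_tensor hLm h₁)
    (isCoh_tensor hLm h₂) (isCoh_tensor hLm h₃) q)
  simp only [ShortComplex.map_X₁, ShortComplex.map_X₂, ShortComplex.map_X₃] at a b
  push_cast at a b
  have e0 := hK m q _ rfl
  have e1 := hK m (q + 1) _ rfl
  simp only [show ∀ M, (tensorRightF (CohB1.tensorPow L m)).obj M = CohB1.tensorMod M (CohB1.tensorPow L m) from fun _ => rfl] at a b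
  rw [abs_le]
  constructor <;> linarith

include hproj hn hL in
/-- A small quotient does not matter. -/
theorem hhatF_left_eq_mid {S : ShortComplex X.Modules} (hS : S.ShortExact) (h₁ : Coh.IsCoh S.X₁)
    (h₂ : Coh.IsCoh S.X₂) (h₃ : Coh.IsCoh S.X₃)
    (hd : topologicalKrullDim (CohB1.support S.X₃) + 1 ≤ (n : WithBot ℕ∞)) (q : ℕ) :
    W4c5asymptcohfn.hhatF k X n q S.X₁ L = W4c5asymptcohfn.hhatF k X n q S.X₂ L := by
  haveI := Groth.L21.RR.isNoetherian_of_proper (X := X) k
  obtain ⟨K, -, hK⟩ := exists_low k hproj hn hL h₃ hd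
  refine hhatF_eq_of_bound k hproj hn hL h₂ q (K := 2 * K) fun m => ?_
  have hb : bd n (2 * K) 0 m = 2 * bd n K 0 m := by simp only [bd, Nat.cast_zero, zero_mul, zero_div, add_zero]; ring
  have hLm := Groth.L18.Ample.isInvertible_tensorPow hL m
  have a := (Nat.cast_le (α := ℝ)).2 (hd_mid_le k (shortExact_tensor hLm hS) (isCoh_tensor hLm h₁)
    (isCoh_tensor hLm h₂) (isCoh_tensor hLm h₃) q)
  have b := (Nat.cast_le (α := ℝ)).2 (hd_left_le k (shortExact_tensor hLm hS) (isCoh_tensor hLm h₁)
    (isCoh_tensor hLm h₂) (isCoh_tensor hLm h₃) q)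
  simp only [ShortComplex.map_X₁, ShortComplex.map_X₂, ShortComplex.map_X₃] at a b
  push_cast at a b
  have e0 := hK m q _ rfl
  have e1 := hK m (q - 1) _ rfl
  simp only [show ∀ M, (tensorRightF (CohB1.tensorPow L m)).obj M = CohB1.tensorMod M (CohB1.tensorPow L m) from fun _ => rfl] at a b
  rw [abs_le]
  constructor <;> linarith

include hproj hn hL in
/-- Maps bijective at the generic point do not matter. -/
theorem hhatF_eq_of_map {A B : X.Modules} (hA : Coh.IsCoh A) (hB : Coh.IsCoh B) (a : A ⟶ B)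
    (h : Function.Bijective ((Groth.L00.Stk.F X (genericPoint X)).map a)) (q : ℕ) :
    W4c5asymptcohfn.hhatF k X n q A L = W4c5asymptcohfn.hhatF k X n q B L := by
  haveI := Groth.L21.RR.isNoetherian_of_proper (X := X) k
  haveI := hB.1
  obtain ⟨hK, hQ⟩ := CohKernel.isCoh_kernel_cokernel hA hB a
  have hI := Groth.L16.CohSupport.isCoh_image hA a
  have small : ∀ M : X.Modules, Coh.IsCoh M → genericPoint X ∉ CohB1.support M →
      topologicalKrullDim (CohB1.support M) + 1 ≤ (n : WithBot ℕ∞) := fun M hM hy => by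
    refine (Groth.L03.Euler.topologicalKrullDim_add_one_le (CohSupport.isClosed_support _ hM.2)
      (isIrreducible_singleton (x := genericPoint X)).closure (by rw [genericPoint_closure]; exact Set.subset_univ _)
      fun e => hy ?_).trans (hall hn _)
    rw [e]; exact subset_closure rfl
  rw [hhatF_mid_eq_right k hproj hn hL (Groth.L16.Devissage.shortExact_kernel_image a) hK hA hI
    (small _ hK (notMem_support_kernel a h.1)) q]
  exact hhatF_left_eq_mid k hproj hn hL (Groth.L16.Devissage.shortExact_image_cokernel a) hI hB hQ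
    (small _ hQ ((notMem_support_cokernel_iff a).2 h.2)) q

include hproj hn hL in
/-- Coefficients only enter through the generic rank. -/
theorem hhatF_eq_rank {F : X.Modules} (hF : Coh.IsCoh F) (q : ℕ) :
    W4c5asymptcohfn.hhatF k X n q F L =
      (Module.finrank (X.presheaf.stalk (genericPoint X)) (F.presheaf.stalk (genericPoint X)) : ℝ) *
        W4c5asymptcohfn.hhat k X n q L := by
  haveI := Groth.L21.RR.isNoetherian_of_proper (X := X) k
  set r := Module.finrank (X.presheaf.stalk (genericPoint X)) (F.presheaf.stalk (genericPoint X))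
  let D : X.Modules := ∐ fun _ : Fin r => Coh.structureModule X
  have hO : Coh.IsCoh (Coh.structureModule X) := CohClosedPush.isCoh_structure
  have hD : Coh.IsCoh D := Groth.L16.Devissage.isCoh_sigma _ fun _ => hO
  letI : Field (X.presheaf.stalk (genericPoint X)) := inferInstanceAs (Field X.functionField)
  haveI : Module.Finite (X.presheaf.stalk (genericPoint X)) (F.presheaf.stalk (genericPoint X)) :=
    Groth.L15.Ref.finite_stalk hF _
  haveI : Module.Finite (X.presheaf.stalk (genericPoint X)) (D.presheaf.stalk (genericPoint X)) :=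
    Groth.L15.Ref.finite_stalk hD _
  have hdim : Module.finrank (X.presheaf.stalk (genericPoint X)) (D.presheaf.stalk (genericPoint X)) = r := by
    refine (Groth.L17.GenericTrivPush.dim_sigma (r := r) (Coh.structureModule X) hO).trans ?_
    rw [Groth.L17.GenericTrivFree.dim_unit, mul_one]
  obtain ⟨I, φ, hI, hφ⟩ := Groth.L17.GenericTrivPush.exists_idealMul_hom D F hD hF (genericPoint X)
    (LinearEquiv.ofFinrankEq _ _ hdim)
  haveI := hD.1
  haveI := hφ
  haveI := Groth.L17.GenericTrivPush.isIso_stalk_idealMulι I D hI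
  have hID : Coh.IsCoh ((Dual3.idealMul I).obj D) := Groth.L17.IdealMulSec.isCoh_idealMul I D hD
  rw [← hhatF_eq_of_map k hproj hn hL hID hF φ
      (ConcreteCategory.bijective_of_isIso ((Groth.L21.Mod.stalkF X (genericPoint X)).map φ)) q,
    hhatF_eq_of_map k hproj hn hL hID hD (Dual3.idealMulι I D)
      (ConcreteCategory.bijective_of_isIso ((Groth.L21.Mod.stalkF X (genericPoint X)).map (Dual3.idealMulι I D))) q]
  rw [hhatF_eq, hhat_eq]
  have hsq : (sq k n q fun m => CohB1.tensorMod D (CohB1.tensorPow L m)) =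
      fun m => (r : ℝ) * sq k n q (fun m => CohB1.tensorPow L m) m := by
    funext m
    haveI : PreservesColimitsOfSize.{u, u} (tensorRightF (CohB1.tensorPow L m)) :=
      Groth.L00.Tensor.preservesColimits_tensorRightF _
    haveI : PreservesColimitsOfSize.{0, 0} (tensorRightF (CohB1.tensorPow L m)) :=
      preservesColimitsOfSize_shrink.{0, u, 0, u} _
    have hLm := Groth.L18.Ample.isInvertible_tensorPow hL m
    let M : Fin r → X.Modules := fun _ => CohB1.tensorMod (Coh.structureModule X) (CohB1.tensorPow L m)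
    have hfin : ∀ j, Module.Finite k (Coh.HH X (M j) q) := fun _ =>
      ProperFinite.finite_HH k (isCoh_tensor hLm hO) q
    have e : CohB1.tensorMod D (CohB1.tensorPow L m) ≅ ∐ M :=
      PreservesCoproduct.iso (tensorRightF (CohB1.tensorPow L m)) fun _ : Fin r => Coh.structureModule X
    have hs : hd k q (∐ M) = r * hd k q (CohB1.tensorPow L m) := by
      rw [hd_def, @Groth.L03.ShStab.QuadricCoh.finrank_sigma X k _ _ r M q hfin]
      simp only [← hd_def, M, hd_iso k (tensorUnitLeft (CohB1.tensorPow L m)) q]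
      rw [Finset.sum_const, Finset.card_fin, smul_eq_mul]
    rw [sq, sq, hd_iso k e q, hs]
    push_cast
    ring
  rw [hsq]
  obtain ⟨B, hB⟩ := exists_sq_le k hproj hn ![L] (fun j => by rw [Subsingleton.elim j 0]; exact hL)
    (fun m => CohB1.tensorPow L m) le_rfl (fun m => inWord_of_cl k (fun _ => m) (by simp) (by simp [mon, cl_pow])) q
  exact ((Monotone.map_limsup_of_continuousAt (f := fun x : ℝ => (r : ℝ) * x)
    (fun a b h => mul_le_mul_of_nonneg_left h (Nat.cast_nonneg r)) _ (by fun_prop)
    ⟨B, eventually_map.2 hB⟩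
    (IsBoundedUnder.isCoboundedUnder_le ⟨0, eventually_map.2 (Eventually.of_forall (sq_nonneg' k n q _))⟩)).symm :)

theorem add_one_le_of_lt {t : WithBot ℕ∞} {n : ℕ} (h : t < (n : WithBot ℕ∞)) : t + 1 ≤ (n : WithBot ℕ∞) := by
  induction t using WithBot.recBotCoe with
  | bot => simp
  | coe t =>
    change ((t + 1 : ℕ∞) : WithBot ℕ∞) ≤ ((n : ℕ∞) : WithBot ℕ∞)
    change ((t : ℕ∞) : WithBot ℕ∞) < ((n : ℕ∞) : WithBot ℕ∞) at h
    rw [WithBot.coe_lt_coe] at h
    rw [WithBot.coe_le_coe]
    exact Order.add_one_le_of_lt h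

end Groth.L11.Asymp
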