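import Groth.Agent.L11.NumOrth.Chi
import Groth.Agent.L22.CurveDeg.ZeroDim
import Groth.Agent.S12111

/-!
# Dimensions of cohomology groups: exact sequences, finite supports, numerically trivial twists
-/

set_option autoImplicit false
set_option backward.isDefEq.respectTransparency false
set_option linter.style.haveILetI false
set_option linter.unusedSectionVars false

universe u

open CategoryTheory CategoryTheory.Limits AlgebraicGeometry TopologicalSpace

noncomputable section

namespace Groth.L11.Asymp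

open Groth.L16 Groth.L22.Nef Groth.L22.Inter Groth.L03.Euler Groth.L22.Big Groth.L11.NumOrth
open Groth.L16.CohLinear (hmap overLin exact_hmap_hmap exact_hmap_delta exact_delta_hmap delta)
open Groth.L00.Tensor (tensorIso tensorAssoc tensorComm tensorUnitRight tensorUnitLeft)

variable (k : Type u) [Field k] {X : Scheme.{u}} [X.Over (Spec (CommRingCat.of k))]

/-- The dimension of a cohomology group. -/
def hd (q : ℕ) (M : X.Modules) : ℕ := Module.finrank k (Coh.HH X M q)

theorem hd_def (q : ℕ) (M : X.Modules) : hd k q M = Module.finrank k (Coh.HH X M q) := rfl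

attribute [irreducible] hd

theorem hd_iso {M N : X.Modules} (e : M ≅ N) (q : ℕ) : hd k q M = hd k q N := by
  rw [hd_def, hd_def]; exact finrank_HH_of_iso e q

theorem hd_zero_eq (M : X.Modules) : hd k 0 M = h0 k M := by rw [hd_def, h0_def]

theorem hd_of_subsingleton {M : X.Modules} {q : ℕ} (h : Subsingleton (Coh.HH X M q)) : hd k q M = 0 := by
  haveI := h
  rw [hd_def]; exact Module.finrank_zero_of_subsingleton

theorem hd_of_isZero {M : X.Modules} (h : IsZero M) (q : ℕ) : hd k q M = 0 :=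
  hd_of_subsingleton k (subsingleton_HH_of_isZero h q)

variable [IsProper (X ↘ Spec (CommRingCat.of k))] {S : ShortComplex X.Modules}

theorem hd_mid_le (hS : S.ShortExact) (h₁ : Coh.IsCoh S.X₁) (h₂ : Coh.IsCoh S.X₂) (h₃ : Coh.IsCoh S.X₃) (q : ℕ) :
    hd k q S.X₂ ≤ hd k q S.X₁ + hd k q S.X₃ := by
  haveI := ProperFinite.finite_HH k h₁ q
  haveI := ProperFinite.finite_HH k h₂ q
  haveI := ProperFinite.finite_HH k h₃ q
  rw [hd_def, hd_def, hd_def, finrank_eq_add (overLin k (hmap S.f q)) (overLin k (hmap S.g q))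
    (exact_hmap_hmap hS q)]
  exact Nat.add_le_add (LinearMap.finrank_range_le _) (Submodule.finrank_le _)

theorem hd_left_le (hS : S.ShortExact) (h₁ : Coh.IsCoh S.X₁) (h₂ : Coh.IsCoh S.X₂) (h₃ : Coh.IsCoh S.X₃) (q : ℕ) :
    hd k q S.X₁ ≤ hd k q S.X₂ + hd k (q - 1) S.X₃ := by
  cases q with
  | zero =>
    haveI := hS.mono_f
    rw [hd_zero_eq, hd_zero_eq]
    exact (h0_le_of_shortExact k hS h₂).trans (Nat.le_add_right _ _)
  | succ q =>
    haveI := ProperFinite.finite_HH k h₁ (q + 1)
    haveI := ProperFinite.finite_HH k h₂ (q + 1)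
    haveI := ProperFinite.finite_HH k h₃ q
    rw [hd_def, hd_def, hd_def, finrank_eq_add (overLin k (delta hS q)) (overLin k (hmap S.f (q + 1)))
      (exact_delta_hmap hS q), Nat.add_sub_cancel, add_comm]
    exact Nat.add_le_add (Submodule.finrank_le _) (LinearMap.finrank_range_le _)

theorem hd_right_le (hS : S.ShortExact) (h₁ : Coh.IsCoh S.X₁) (h₂ : Coh.IsCoh S.X₂) (h₃ : Coh.IsCoh S.X₃) (q : ℕ) :
    hd k q S.X₃ ≤ hd k q S.X₂ + hd k (q + 1) S.X₁ := by
  haveI := ProperFinite.finite_HH k h₁ (q + 1)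
  haveI := ProperFinite.finite_HH k h₂ q
  haveI := ProperFinite.finite_HH k h₃ q
  rw [hd_def, hd_def, hd_def, finrank_eq_add (overLin k (hmap S.g q)) (overLin k (delta hS q))
    (exact_hmap_delta hS q)]
  exact Nat.add_le_add (LinearMap.finrank_range_le _) (Submodule.finrank_le _)

omit [IsProper (X ↘ Spec (CommRingCat.of k))] in
theorem dim_support_tensor_le {F : X.Modules} {M : X.Modules} (hM : PicF.IsInvertible M) {d : WithBot ℕ∞}
    (h : topologicalKrullDim (CohB1.support F) ≤ d) : topologicalKrullDim (CohB1.support (CohB1.tensorMod F M)) ≤ d := by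
  rw [support_tensor hM F]
  exact h

/-- Invertible twists do not change the cohomology of modules with finite support. -/
theorem hd_zero_dim {F : X.Modules} (hF : Coh.IsCoh F) (h : topologicalKrullDim (CohB1.support F) ≤ ((0 : ℕ) : WithBot ℕ∞))
    {M : X.Modules} (hM : PicF.IsInvertible M) (q : ℕ) :
    (hd k q (CohB1.tensorMod F M) : ℚ) ≤ altT k (Fin.elim0 : Fin 0 → X.Modules) F := by
  haveI := Groth.L21.RR.isNoetherian_of_proper (X := X) k
  have hG := isCoh_tensor hM hF
  have hsc : Groth.L21.RR.SuppClosed (CohB1.tensorMod F M) :=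
    Groth.L22.CurveDeg.suppClosed_of_dim hG (dim_support_tensor_le hM (by exact_mod_cast h))
  have h1 : altT k (Fin.cons M (Fin.elim0 : Fin 0 → X.Modules)) F = 0 :=
    altT_eq_zero k (fun i => by
      refine Fin.cases ?_ (fun i => Fin.elim0 i) i
      simpa using hM) hF ((add_le_add_left h 1).trans (by norm_num))
  rw [altT_cons, altT_zero_eq, altT_zero_eq, sub_eq_zero] at h1
  rw [altT_zero_eq, ← h1, Groth.L21.RR.euler_eq_h0_of_suppClosed k hsc, Int.cast_natCast]
  cases q with
  | zero => rw [hd_def]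
  | succ q =>
    rw [hd_of_subsingleton k (Groth.L21.RR.subsingleton_HH_of_suppClosed hsc q), Nat.cast_zero]
    positivity

variable [IsAlgClosed k] {n : ℕ} (i : X ⟶ CohB1.ProjSpace n k) [IsClosedImmersion i]
  (hi : i ≫ CohB1.ProjSpace.toSpec n k = X ↘ Spec (CommRingCat.of k))

include hi in
theorem exists_hd_twist_le : ∀ (d : ℕ) (F : X.Modules), Coh.IsCoh F →
    topologicalKrullDim (CohB1.support F) + 1 ≤ (d : WithBot ℕ∞) →
    ∀ j : ℤ, ∃ C : ℕ, ∀ L, NT k L → ∀ q, hd k q (Pic13.twistOn k i (CohB1.tensorMod F L) j) ≤ C := by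
  haveI := Groth.L21.RR.isNoetherian_of_proper (X := X) k
  intro d
  induction d with
  | zero =>
    intro F _ hd' j
    exact ⟨0, fun L _ q => (hd_of_isZero k (X := X) (isZero_tensor (isZero_tensor (isZero_of_dim hd') L) (OX i j)) q).le⟩
  | succ d ihd =>
    intro F hF hd' j
    obtain ⟨G, f, g, hfg, hS, hG, hGd⟩ := exists_hyperplane i hF (dim_succ_iff.1 hd')
    obtain ⟨m, hm⟩ := (chi_reg_bdd k i hi (d + 1)).2.1 F hF hd'
    have top : ∀ j : ℤ, m - 1 ≤ j → ∃ C : ℕ, ∀ L, NT k L → ∀ q, hd k q (Pic13.twistOn k i (CohB1.tensorMod F L) j) ≤ C := by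
      intro j hj
      obtain ⟨B, hB⟩ := (chi_reg_bdd k i hi (d + 1)).2.2 F hF hd' j
      refine ⟨B, fun L hL q => ?_⟩
      cases q with
      | zero => rw [hd_zero_eq]; exact hB L hL
      | succ q =>
        have h := (Groth.Agent.S12111.result k n i _ (isCoh_tensor hL.1 hF) m (hm L hL) (j + (q + 1 : ℕ))
          (by push_cast; omega)).1 (q + 1) (Nat.le_add_left 1 q)
        rw [show j + ((q + 1 : ℕ) : ℤ) - ((q + 1 : ℕ) : ℤ) = j by ring] at h
        rw [hd_of_subsingleton k h]
        exact Nat.zero_le _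
    have down : ∀ t : ℕ, ∃ C : ℕ, ∀ L, NT k L → ∀ q,
        hd k q (Pic13.twistOn k i (CohB1.tensorMod F L) (m - 1 - t)) ≤ C := by
      intro t
      induction t with
      | zero => simpa using top (m - 1) le_rfl
      | succ t ih =>
        obtain ⟨C, hC⟩ := ih
        obtain ⟨D, hD⟩ := ihd G hG hGd (m - 1 - t)
        refine ⟨C + D, fun L hL q => ?_⟩
        obtain ⟨f₁, g₁, h₁, hS₁⟩ := exists_seq_tensor k i hS hL.1
        obtain ⟨f₂, g₂, h₂, hS₂⟩ := exists_seq_twist k i hS₁ (m - 1 - t)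
        have := hd_left_le (S := ShortComplex.mk f₂ g₂ h₂) k hS₂
          (Groth.L22.Reg.isCoh_twistOn i (isCoh_tensor hL.1 hF) _)
          (Groth.L22.Reg.isCoh_twistOn i (isCoh_tensor hL.1 hF) _)
          (Groth.L22.Reg.isCoh_twistOn i (isCoh_tensor hL.1 hG) _) q
        rw [show m - 1 - ((t + 1 : ℕ) : ℤ) = m - 1 - t - 1 by push_cast; ring]
        exact this.trans (Nat.add_le_add (hC L hL q) (hD L hL (q - 1)))
    rcases le_total (m - 1) j with hj | hj
    · exact top j hj
    · obtain ⟨C, hC⟩ := down (m - 1 - j).toNat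
      exact ⟨C, fun L hL q => by
        have := hC L hL q
        rwa [show m - 1 - (((m - 1 - j).toNat : ℕ) : ℤ) = j by omega] at this⟩

include hi in
/-- Cohomology of numerically trivial twists is bounded. -/
theorem exists_hd_le {F : X.Modules} (hF : Coh.IsCoh F) :
    ∃ C : ℕ, ∀ L, NT k L → ∀ q, hd k q (CohB1.tensorMod F L) ≤ C := by
  obtain ⟨D, hD, -⟩ := exists_nat_dim_le k k (X := X)
  obtain ⟨C, hC⟩ := exists_hd_twist_le k i hi (D + 1) F hF
    (dim_succ_iff.2 (Topology.IsInducing.subtypeVal.topologicalKrullDim_le.trans hD)) 0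
  refine ⟨C, fun L hL q => ?_⟩
  obtain ⟨e⟩ := nonempty_twist_zero i (CohB1.tensorMod F L)
  rw [← hd_iso k e]
  exact hC L hL q

end Groth.L11.Asymp
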