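import Groth.Agent.L11.Asymp.Main
import Groth.Agent.L16.NegPow.Gen

/-!
# Invariance, homogeneity and continuity of asymptotic cohomological functions
-/

set_option autoImplicit false
set_option backward.isDefEq.respectTransparency false
set_option linter.style.haveILetI false
set_option linter.unusedSectionVars false

universe u

open CategoryTheory CategoryTheory.Limits AlgebraicGeometry TopologicalSpace Filter
open scoped Topology

noncomputable section

namespace Groth.L11.Asymp

open Groth.L16 Groth.L22.Nef Groth.L22.Inter Groth.L03.Euler Groth.L22.Big Groth.L11.NumOrth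

attribute [local instance] Groth.L08.Cube.clMonoid

variable (k : Type u) [Field k] [IsAlgClosed k] {X : Scheme.{u}} [X.Over (Spec (CommRingCat.of k))]
  [IsProper (X ↘ Spec (CommRingCat.of k))] [IsIntegral X] (hproj : ∃ A : X.Modules, CohB1.IsAmple A)
  {n : ℕ} (hn : topologicalKrullDim X = n)

theorem inWord_of_cl {r : ℕ} {L : Fin r → X.Modules} {S : ℕ} {M : X.Modules} (c : Fin r → ℕ) (hc : ∑ j, c j ≤ S)
    (h : PicF.cl M = mon L c) : InWord k L S M :=
  ⟨c, Coh.structureModule X, hc, NT.unit, by rw [cl_O, one_mul, h]⟩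

include hproj hn in
/-- Numerically trivial twists do not change the asymptotic functions. -/
theorem hhat_tensor_nt {L P : X.Modules} (hL : PicF.IsInvertible L) (hP : NT k P) (q : ℕ) :
    W4c5asymptcohfn.hhat k X n q (CohB1.tensorMod L P) = W4c5asymptcohfn.hhat k X n q L := by
  have hLi : ∀ j : Fin 1, PicF.IsInvertible ((![L] : Fin 1 → X.Modules) j) := fun j => by
    rw [Subsingleton.elim j 0]; exact hL
  obtain ⟨K, C, C₀, hK, -, hNT, -⟩ := exists_est k hproj hn ![L] hLi
  choose C' hC' using fun t : ℕ => hNT (CohB1.tensorPow P t) (hP.pow t)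
  have hg : ∃ B, ∀ᶠ m in atTop, sq k n q (fun m => CohB1.tensorPow L m) m ≤ B :=
    exists_sq_le k hproj hn ![L] hLi _ le_rfl (fun m => inWord_of_cl k (fun _ => m) (by simp)
      (by simp [mon, cl_pow])) q
  rw [hhat_eq, hhat_eq, ← sub_eq_zero]
  refine abs_eq_zero.1 (le_antisymm ?_ (abs_nonneg _))
  set Δ := |limsup (sq k n q fun m => CohB1.tensorPow (CohB1.tensorMod L P) m) atTop -
    limsup (sq k n q fun m => CohB1.tensorPow L m) atTop|
  have key : ∀ r : ℕ, 0 < r → Δ ≤ (n : ℝ) * K * n.factorial / r := by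
    intro r hr
    let D := C' r + ∑ c ∈ Finset.range r, C' c
    have hbound := abs_limsup_sq_sub_le k (n := n) (K := K) (C := D) (s := 1) le_rfl
      (α := 1 / (r : ℝ)) (β := 1) (q := q) (f := fun m => CohB1.tensorPow (CohB1.tensorMod L P) m) hg
      (Eventually.of_forall fun m => ?_)
    · refine hbound.trans (le_of_eq ?_)
      simp only [Nat.cast_one, one_pow, mul_one]
      ring
    rw [one_mul]
    let Mt : ℕ → X.Modules := fun t => CohB1.tensorMod (CohB1.tensorPow L m) (CohB1.tensorPow P t)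
    have hw : ∀ t, InWord k (![L] : Fin 1 → X.Modules) m (Mt t) := fun t =>
      ⟨fun _ => m, CohB1.tensorPow P t, by simp, hP.pow t, by simp [Mt, cl_mul, cl_pow, mon, mul_comm]⟩
    have step : ∀ t u : ℕ, |(hd k q (Mt (t + u)) : ℝ) - hd k q (Mt t)| ≤ bd n K (C' u) m := by
      intro t u
      obtain ⟨e⟩ : Nonempty (CohB1.tensorMod (Mt t) (CohB1.tensorPow P u) ≅ Mt (t + u)) :=
        cl_iff.1 (by simp [Mt, cl_mul, cl_pow, pow_add, mul_assoc])
      obtain ⟨c, N, hc, hN, hM⟩ := hw (t + u)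
      have := hC' u m (Mt t) (hw t) ⟨c, N, hc, hN, (cl_iff.2 ⟨e⟩).trans hM⟩ q
      rwa [hd_iso k e q] at this
    have chain : ∀ j, |(hd k q (Mt (r * j)) : ℝ) - hd k q (Mt 0)| ≤ (j : ℝ) * bd n K D m := by
      intro j
      induction j with
      | zero => simp
      | succ j ih =>
        have h1 := (step (r * j) r).trans (bd_mono (show C' r ≤ D from Nat.le_add_right _ _) m)
        rw [show r * (j + 1) = r * j + r by ring]
        have h2 := abs_le.1 h1
        have h3 := abs_le.1 ih
        push_cast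
        rw [abs_le]
        constructor <;> linarith
    obtain ⟨e1⟩ : Nonempty (CohB1.tensorPow (CohB1.tensorMod L P) m ≅ Mt m) :=
      cl_iff.1 (by simp [Mt, cl_mul, cl_pow, mul_pow])
    obtain ⟨e0⟩ : Nonempty (CohB1.tensorPow L m ≅ Mt 0) :=
      cl_iff.1 (by simp [Mt, cl_mul, cl_pow])
    rw [hd_iso k e1 q, hd_iso k e0 q]
    have h1 := chain (m / r)
    have h2 := (step (r * (m / r)) (m % r)).trans (bd_mono (show C' (m % r) ≤ D from
      (Finset.single_le_sum (f := C') (fun _ _ => Nat.zero_le _) (Finset.mem_range.2 (Nat.mod_lt m hr))).trans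
        (Nat.le_add_left _ _)) m)
    rw [Nat.div_add_mod] at h2
    have hj : ((m / r : ℕ) : ℝ) ≤ 1 / (r : ℝ) * m := by
      rw [one_div_mul_eq_div, le_div_iff₀ (by exact_mod_cast hr)]
      exact_mod_cast Nat.div_mul_le_self m r
    have h3 := mul_le_mul_of_nonneg_right hj (bd_nonneg (n := n) hK D m)
    have h4 := abs_le.1 h1
    have h5 := abs_le.1 h2
    rw [abs_le]
    constructor <;> linarith
  have hlim : Tendsto (fun r : ℕ => (n : ℝ) * K * n.factorial / r) atTop (𝓝 0) :=
    tendsto_const_nhds.div_atTop tendsto_natCast_atTop_atTop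
  exact ge_of_tendsto hlim ((eventually_gt_atTop 0).mono key)

include hproj hn in
/-- Homogeneity. -/
theorem hhat_pow {L : X.Modules} (hL : PicF.IsInvertible L) {a : ℕ} (ha : 1 ≤ a) (q : ℕ) :
    W4c5asymptcohfn.hhat k X n q (CohB1.tensorPow L a) = (a : ℝ) ^ n * W4c5asymptcohfn.hhat k X n q L := by
  have hLi : ∀ j : Fin 1, PicF.IsInvertible ((![L] : Fin 1 → X.Modules) j) := fun j => by
    rw [Subsingleton.elim j 0]; exact hL
  obtain ⟨K, C, -, hK, hdist, -, -⟩ := exists_est k hproj hn ![L] hLi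
  obtain ⟨Bu, hBu⟩ := exists_sq_le k hproj hn ![L] hLi (fun m => CohB1.tensorPow L m) le_rfl
    (fun m => inWord_of_cl k (fun _ => m) (by simp) (by simp [mon, cl_pow])) q
  rw [hhat_eq, hhat_eq]
  set u := sq k n q (fun m => CohB1.tensorPow L m)
  set w := sq k n q (fun m => CohB1.tensorPow (CohB1.tensorPow L a) m)
  have han : (0 : ℝ) < (a : ℝ) ^ n := pow_pos (by exact_mod_cast ha) n
  have hmul : Tendsto (fun j : ℕ => a * j) atTop atTop :=
    tendsto_atTop_mono (fun j => Nat.le_mul_of_pos_left j ha) tendsto_id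
  have hdiv : Tendsto (fun m : ℕ => m / a) atTop atTop := Nat.tendsto_div_const_atTop (by omega)
  have wu : ∀ j, w j = (a : ℝ) ^ n * u (a * j) := by
    intro j
    obtain ⟨e⟩ : Nonempty (CohB1.tensorPow (CohB1.tensorPow L a) j ≅ CohB1.tensorPow L (a * j)) :=
      cl_iff.1 (by rw [cl_pow, cl_pow, cl_pow, pow_mul])
    simp only [w, u, sq, hd_iso k e q]
    push_cast
    rw [mul_pow, ← mul_div_assoc, mul_div_mul_left _ _ han.ne']
  have hwB : ∀ᶠ j in atTop, w j ≤ (a : ℝ) ^ n * Bu := (hmul.eventually hBu).mono fun j hj => by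
    rw [wu]; exact mul_le_mul_of_nonneg_left hj han.le
  refine le_antisymm ?_ ?_
  · refine le_of_forall_pos_le_add fun ε hε => limsup_le_of_le
      (IsBoundedUnder.isCoboundedUnder_le ⟨0, eventually_map.2 (Eventually.of_forall (sq_nonneg' k n q _))⟩) ?_
    filter_upwards [hmul.eventually (eventually_lt_of_limsup_lt (lt_add_of_pos_right (limsup u atTop)
      (div_pos hε han)) ⟨Bu, eventually_map.2 hBu⟩)] with j hj
    rw [wu]
    refine (mul_le_mul_of_nonneg_left hj.le han.le).trans (le_of_eq ?_)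
    field_simp
  · rw [mul_comm, ← le_div_iff₀ han]
    refine le_of_forall_pos_le_add fun ε hε => limsup_le_of_le
      (IsBoundedUnder.isCoboundedUnder_le ⟨0, eventually_map.2 (Eventually.of_forall (sq_nonneg' k n q _))⟩) ?_
    have herr := tendsto_err n K C (le_refl 1) 0 (a : ℝ)
    simp only [zero_mul] at herr
    filter_upwards [hdiv.eventually (eventually_lt_of_limsup_lt (lt_add_of_pos_right (limsup w atTop)
        (mul_pos han (half_pos hε))) ⟨_, eventually_map.2 hwB⟩),
      hdiv.eventually (eventually_gt_atTop 0), herr.eventually_le_const (half_pos hε)] with m hm hm0 he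
    have hle : a * (m / a) ≤ m := Nat.mul_div_le m a
    have hr : m - a * (m / a) ≤ a := by
      have := Nat.div_add_mod m a
      have := Nat.mod_lt m (show a > 0 by omega)
      omega
    have hd1 := (abs_le.1 (hdist (fun _ => m) (fun _ => a * (m / a)) m (Coh.structureModule X)
      (CohB1.tensorPow L m) (CohB1.tensorPow L (a * (m / a))) (by simp) (by simpa using hle) NT.unit
      (by simp [mon, cl_pow, cl_O]) (by simp [mon, cl_pow, cl_O]) q)).2
    have hdd : dist₁ (fun _ : Fin 1 => m) (fun _ => a * (m / a)) = m - a * (m / a) := by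
      rw [dist₁, Fin.sum_univ_one]; omega
    rw [hdd] at hd1
    have h2 : ((m - a * (m / a) : ℕ) : ℝ) ≤ (a : ℝ) := by exact_mod_cast hr
    have h3 := mul_le_mul_of_nonneg_right h2 (bd_nonneg (n := n) hK C m)
    have hu : u m ≤ u (a * (m / a)) + (a : ℝ) * bd n K C m * n.factorial / (m : ℝ) ^ n := by
      simp only [u, sq]
      have hpos : (0 : ℝ) < ((a * (m / a) : ℕ) : ℝ) ^ n :=
        pow_pos (Nat.cast_pos.2 (Nat.mul_pos (by omega) hm0)) n
      have hmm : ((a * (m / a) : ℕ) : ℝ) ^ n ≤ (m : ℝ) ^ n := by gcongr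
      calc _ ≤ ((hd k q (CohB1.tensorPow L (a * (m / a))) : ℝ) + (a : ℝ) * bd n K C m) * n.factorial / (m : ℝ) ^ n := by
            gcongr; linarith
        _ = (hd k q (CohB1.tensorPow L (a * (m / a))) : ℝ) * n.factorial / (m : ℝ) ^ n +
            (a : ℝ) * bd n K C m * n.factorial / (m : ℝ) ^ n := by ring
        _ ≤ _ := by gcongr
    have h4 : u (a * (m / a)) ≤ limsup w atTop / (a : ℝ) ^ n + ε / 2 := by
      rw [div_add' _ _ _ han.ne', le_div_iff₀ han, mul_comm, ← wu]
      linarith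
    simp only [one_mul, zero_add] at he
    linarith

theorem dist₁_le_natAbs {r : ℕ} (a b : Fin r → ℤ) :
    dist₁ (Fin.append (fun j => (a j).toNat) fun j => (-(a j)).toNat)
        (Fin.append (fun j => (b j).toNat) fun j => (-(b j)).toNat) ≤ 2 * ∑ j, (a j - b j).natAbs := by
  rw [dist₁, Fin.sum_univ_add, Finset.mul_sum, ← Finset.sum_add_distrib]
  refine Finset.sum_le_sum fun j _ => ?_
  simp only [Fin.append_left, Fin.append_right]
  omega

omit [IsAlgClosed k] [IsProper (X ↘ Spec (CommRingCat.of k))] [X.Over (Spec (CommRingCat.of k))] [IsIntegral X] in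
theorem cl_multiTwist {r : ℕ} (L : Fin r → X.Modules) (c : Fin r → ℕ) : PicF.cl (FGA.multiTwist L c) = mon L c := by
  have : ∀ l : List (Fin r), PicF.cl (FGA.tensorList (l.map fun i => CohB1.tensorPow (L i) (c i))) =
      (l.map fun i => PicF.cl (L i) ^ c i).prod := by
    intro l
    induction l with
    | nil => rfl
    | cons i l ih =>
      show PicF.cl (CohB1.tensorMod _ (FGA.tensorList _)) = _
      rw [cl_mul, ih, cl_pow]
      simp
  rw [FGA.multiTwist, this, mon, ← List.ofFn_eq_map, List.prod_ofFn]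

omit [IsAlgClosed k] [IsProper (X ↘ Spec (CommRingCat.of k))] [X.Over (Spec (CommRingCat.of k))] [IsIntegral X] in
theorem cl_ztwist_pow {r : ℕ} (L M : Fin r → X.Modules) (a : Fin r → ℤ) (m : ℕ) :
    PicF.cl (CohB1.tensorPow (W4c5asymptcohfn.ztwist X L M a) m) =
      mon (Fin.append L M) (fun j => m * Fin.append (fun j => (a j).toNat) (fun j => (-(a j)).toNat) j) := by
  rw [cl_pow, W4c5asymptcohfn.ztwist, cl_mul, cl_multiTwist, cl_multiTwist]
  simp only [mon, Fin.prod_univ_add, Fin.append_left, Fin.append_right, mul_pow, ← Finset.prod_pow, ← pow_mul]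
  simp only [mul_comm]

include hproj hn in
/-- The estimate behind the continuity of the asymptotic functions. -/
theorem exists_lipschitz {r : ℕ} (L M : Fin r → X.Modules) (hL : ∀ j, PicF.IsInvertible (L j))
    (hM : ∀ j, PicF.IsInvertible (M j)) (q : ℕ) :
    ∃ C : ℝ, 0 ≤ C ∧ ∀ a b : Fin r → ℤ,
      |W4c5asymptcohfn.hhat k X n q (W4c5asymptcohfn.ztwist X L M a) -
          W4c5asymptcohfn.hhat k X n q (W4c5asymptcohfn.ztwist X L M b)| ≤
        C * (n * ((max ‖(fun j => ((a j : ℤ) : ℝ))‖ ‖(fun j => ((b j : ℤ) : ℝ))‖) ^ (n - 1) *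
          ‖(fun j => ((a j - b j : ℤ) : ℝ))‖)) := by
  have hLM : ∀ j, PicF.IsInvertible (Fin.append L M j) :=
    Fin.addCases (fun j => by rw [Fin.append_left]; exact hL j) (fun j => by rw [Fin.append_right]; exact hM j)
  obtain ⟨K, C, -, hK, hdist, -, -⟩ := exists_est k hproj hn (Fin.append L M) hLM
  refine ⟨2 * r * K * n.factorial * ((2 * r + 1 : ℕ) : ℝ) ^ (n - 1), by positivity, fun a b => ?_⟩
  set A := ‖(fun j => ((a j : ℤ) : ℝ))‖
  set B := ‖(fun j => ((b j : ℤ) : ℝ))‖
  set D := ‖(fun j => ((a j - b j : ℤ) : ℝ))‖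
  have hD0 : 0 ≤ D := norm_nonneg _
  by_cases hab : a = b
  · subst hab
    rw [sub_self, abs_zero]
    positivity
  let e : (Fin r → ℤ) → Fin (r + r) → ℕ := fun a => Fin.append (fun j => (a j).toNat) fun j => (-(a j)).toNat
  have he : ∀ a : Fin r → ℤ, ∑ j, e a j = ∑ j, (a j).natAbs := fun a => by
    simp only [e, Fin.sum_univ_add, Fin.append_left, Fin.append_right, ← Finset.sum_add_distrib]
    exact Finset.sum_congr rfl fun j _ => by omega
  let s : ℕ := ∑ j, (a j).natAbs + ∑ j, (b j).natAbs + 1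
  have hs : 1 ≤ s := Nat.le_add_left 1 _
  have hwb : ∀ m, InWord k (Fin.append L M) (s * m) (CohB1.tensorPow (W4c5asymptcohfn.ztwist X L M b) m) := fun m =>
    inWord_of_cl k _ (by rw [← Finset.mul_sum, mul_comm s m]; exact Nat.mul_le_mul_left m (by
      change ∑ j, e b j ≤ s
      rw [he]; simp only [s]; omega)) (cl_ztwist_pow L M b m)
  rw [hhat_eq, hhat_eq]
  refine (abs_limsup_sq_sub_le k (n := n) (K := K) (C := C) hs
    (α := (dist₁ (e a) (e b) : ℝ)) (β := 0) (exists_sq_le k hproj hn _ hLM _ hs hwb q)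
    (Eventually.of_forall fun m => ?_)).trans ?_
  · have hd1 := hdist (fun j => m * e a j) (fun j => m * e b j) (s * m) (Coh.structureModule X)
      (CohB1.tensorPow (W4c5asymptcohfn.ztwist X L M a) m) (CohB1.tensorPow (W4c5asymptcohfn.ztwist X L M b) m)
      (by rw [← Finset.mul_sum, mul_comm s m, he]; exact Nat.mul_le_mul_left m (by simp only [s]; omega))
      (by rw [← Finset.mul_sum, mul_comm s m, he]; exact Nat.mul_le_mul_left m (by simp only [s]; omega))
      NT.unit (by rw [cl_O, one_mul]; exact cl_ztwist_pow L M a m)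
      (by rw [cl_O, one_mul]; exact cl_ztwist_pow L M b m) q
    have hm : dist₁ (fun j => m * e a j) (fun j => m * e b j) = dist₁ (e a) (e b) * m := by
      rw [dist₁, dist₁, Finset.sum_mul]
      exact Finset.sum_congr rfl fun j _ => by rw [add_mul, Nat.sub_mul, Nat.sub_mul, mul_comm m, mul_comm m]
    rw [hm, Nat.cast_mul] at hd1
    simpa using hd1
  have hR : 1 ≤ max A B := by
    obtain ⟨j, hj⟩ := Function.ne_iff.1 hab
    have : a j ≠ 0 ∨ b j ≠ 0 := by omega
    rcases this with h | h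
    · exact le_max_of_le_left (le_trans (by simpa using (Int.cast_le (R := ℝ)).2 (Int.one_le_abs h))
        (norm_le_pi_norm (fun j => ((a j : ℤ) : ℝ)) j))
    · exact le_max_of_le_right (le_trans (by simpa using (Int.cast_le (R := ℝ)).2 (Int.one_le_abs h))
        (norm_le_pi_norm (fun j => ((b j : ℤ) : ℝ)) j))
  have hsum : ∀ c : Fin r → ℤ, ((∑ j, (c j).natAbs : ℕ) : ℝ) ≤ r * ‖(fun j => ((c j : ℤ) : ℝ))‖ := fun c => by
    push_cast
    refine (Finset.sum_le_card_nsmul _ _ ‖(fun j => ((c j : ℤ) : ℝ))‖ fun j _ => ?_).trans_eq (by simp)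
    refine le_trans (le_of_eq ?_) (norm_le_pi_norm (fun j => ((c j : ℤ) : ℝ)) j)
    simp [Nat.cast_natAbs]
  have hdd : (dist₁ (e a) (e b) : ℝ) ≤ 2 * r * D := by
    refine (Nat.cast_le.2 (dist₁_le_natAbs a b)).trans ?_
    rw [Nat.cast_mul, Nat.cast_ofNat, mul_assoc]
    exact mul_le_mul_of_nonneg_left (hsum fun j => a j - b j) zero_le_two
  have hsR : (s : ℝ) ≤ ((2 * r + 1 : ℕ) : ℝ) * max A B := by
    simp only [s, Nat.cast_add, Nat.cast_one, Nat.cast_mul, Nat.cast_ofNat]
    have := hsum a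
    have := hsum b
    have := mul_le_mul_of_nonneg_left (le_max_left A B) (Nat.cast_nonneg (α := ℝ) r)
    have := mul_le_mul_of_nonneg_left (le_max_right A B) (Nat.cast_nonneg (α := ℝ) r)
    push_cast at *
    linarith
  calc _ ≤ 2 * r * D * n * K * n.factorial * (((2 * r + 1 : ℕ) : ℝ) * max A B) ^ (n - 1) := by gcongr
    _ = _ := by rw [mul_pow]; ring

include hproj hn in
/-- Twisting by the inverse of an ample module is negligible along high powers. -/
theorem tendsto_sub_twist {L A' : X.Modules} (hL : PicF.IsInvertible L) (hA' : PicF.IsInvertible A') (q : ℕ) :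
    Tendsto (fun p : ℕ => (W4c5asymptcohfn.hhat k X n q (CohB1.tensorMod (CohB1.tensorPow L p) A') -
      W4c5asymptcohfn.hhat k X n q (CohB1.tensorPow L p)) / (p : ℝ) ^ n) atTop (𝓝 0) := by
  have hLi : ∀ j : Fin 2, PicF.IsInvertible ((![L, A'] : Fin 2 → X.Modules) j) :=
    Fin.forall_fin_two.2 ⟨hL, hA'⟩
  obtain ⟨K, C, -, hK, hdist, -, -⟩ := exists_est k hproj hn ![L, A'] hLi
  have key : ∀ p : ℕ, |W4c5asymptcohfn.hhat k X n q (CohB1.tensorMod (CohB1.tensorPow L p) A') -
      W4c5asymptcohfn.hhat k X n q (CohB1.tensorPow L p)| ≤ n * K * n.factorial * ((p : ℝ) + 1) ^ (n - 1) := by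
    intro p
    rw [hhat_eq, hhat_eq]
    refine (abs_limsup_sq_sub_le k (n := n) (K := K) (C := C) (s := p + 1) (Nat.le_add_left 1 p)
      (α := 1) (β := 0) (exists_sq_le k hproj hn _ hLi _ (Nat.le_add_left 1 p)
        (fun m => inWord_of_cl k ![p * m, 0] (by simp [Fin.sum_univ_two]; nlinarith)
          (by simp [mon, cl_pow, Fin.prod_univ_two, pow_mul])) q)
      (Eventually.of_forall fun m => ?_)).trans (le_of_eq (by push_cast; ring))
    have hd1 := hdist ![p * m, m] ![p * m, 0] ((p + 1) * m) (Coh.structureModule X)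
      (CohB1.tensorPow (CohB1.tensorMod (CohB1.tensorPow L p) A') m) (CohB1.tensorPow (CohB1.tensorPow L p) m)
      (by simp [Fin.sum_univ_two, add_mul]) (by simp [Fin.sum_univ_two, add_mul]) NT.unit
      (by simp [mon, cl_pow, cl_mul, cl_O, Fin.prod_univ_two, pow_mul, mul_pow])
      (by simp [mon, cl_pow, cl_O, Fin.prod_univ_two, pow_mul]) q
    have hdd : dist₁ (![p * m, m] : Fin 2 → ℕ) ![p * m, 0] = m := by simp [dist₁, Fin.sum_univ_two]
    rw [hdd] at hd1
    simpa using hd1
  have hlim : Tendsto (fun p : ℕ => (n : ℝ) * K * n.factorial * ((p : ℝ) + 1) ^ (n - 1) / (p : ℝ) ^ n) atTop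
      (𝓝 0) := by
    cases n with
    | zero => simp
    | succ d =>
      have h1 : Tendsto (fun p : ℕ => (1 : ℝ) / p) atTop (𝓝 0) := tendsto_one_div_atTop_nhds_zero_nat
      have h := ((h1.const_add (1 : ℝ)).pow d).mul h1
      have h' := (h.const_mul (((d + 1 : ℕ) : ℝ) * K * (d + 1).factorial))
      refine Tendsto.congr' ?_ (h'.trans_eq (by simp))
      filter_upwards [eventually_gt_atTop 0] with p hp
      have hp' : (0 : ℝ) < p := by exact_mod_cast hp
      rw [Nat.add_sub_cancel, show (1 : ℝ) + 1 / p = ((p : ℝ) + 1) / p by field_simp, div_pow, pow_succ (p : ℝ)]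
      field_simp
  refine squeeze_zero_norm (fun p => ?_) hlim
  rw [Real.norm_eq_abs, abs_div, abs_of_nonneg (show (0 : ℝ) ≤ (p : ℝ) ^ n by positivity)]
  gcongr
  exact key p

theorem isInvertible_of_inverse {A A' : X.Modules} (hA : PicF.IsInvertible A) (h : ClSub.IsInverseOf A A') :
    PicF.IsInvertible A' :=
  h.elim fun e => Groth.L16.NegPow.isInvertible_inverse hA e

include hproj hn in
theorem exists_le_norm_pow {r : ℕ} (L M : Fin r → X.Modules) (q : ℕ) {C : ℝ} (hC0 : 0 ≤ C)
    (hC : ∀ a b : Fin r → ℤ,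
      |W4c5asymptcohfn.hhat k X n q (W4c5asymptcohfn.ztwist X L M a) -
          W4c5asymptcohfn.hhat k X n q (W4c5asymptcohfn.ztwist X L M b)| ≤
        C * (n * ((max ‖(fun j => ((a j : ℤ) : ℝ))‖ ‖(fun j => ((b j : ℤ) : ℝ))‖) ^ (n - 1) *
          ‖(fun j => ((a j - b j : ℤ) : ℝ))‖))) :
    ∃ C' : ℝ, ∀ a : Fin r → ℤ, W4c5asymptcohfn.hhat k X n q (W4c5asymptcohfn.ztwist X L M a) ≤
      C' * ‖(fun j => ((a j : ℤ) : ℝ))‖ ^ n := by
  have h0 : W4c5asymptcohfn.hhat k X n q (W4c5asymptcohfn.ztwist X L M 0) =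
      limsup (fun m : ℕ => (hd k q (Coh.structureModule X) : ℝ) * (n.factorial : ℝ) / (m : ℝ) ^ n) atTop := by
    rw [hhat_eq]
    congr 1
    funext m
    obtain ⟨e⟩ : Nonempty (CohB1.tensorPow (W4c5asymptcohfn.ztwist X L M 0) m ≅ Coh.structureModule X) :=
      cl_iff.1 (by
        rw [cl_ztwist_pow, cl_O, mon]
        refine Finset.prod_eq_one fun j _ => ?_
        refine Fin.addCases (fun l => ?_) (fun l => ?_) j
        · rw [Fin.append_left, Fin.append_left]; simp
        · rw [Fin.append_right, Fin.append_right]; simp)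
    rw [sq, hd_iso k e q]
  refine ⟨|W4c5asymptcohfn.hhat k X n q (W4c5asymptcohfn.ztwist X L M 0)| + C * n, fun a => ?_⟩
  have h := (abs_le.1 (hC a 0)).2
  simp only [Pi.zero_apply, Int.cast_zero, sub_zero] at h
  rw [show (fun _ : Fin r => (0 : ℝ)) = 0 from rfl, norm_zero, max_eq_left (norm_nonneg _)] at h
  cases n with
  | zero =>
    simp only [pow_zero, mul_one, Nat.cast_zero, zero_mul, mul_zero, add_zero] at h ⊢
    linarith [le_abs_self (W4c5asymptcohfn.hhat k X 0 q (W4c5asymptcohfn.ztwist X L M 0))]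
  | succ d =>
    have hz : W4c5asymptcohfn.hhat k X (d + 1) q (W4c5asymptcohfn.ztwist X L M 0) = 0 := by
      rw [h0]
      exact (tendsto_const_nhds.div_atTop
        ((tendsto_pow_atTop (Nat.succ_ne_zero d)).comp tendsto_natCast_atTop_atTop)).limsup_eq
    rw [hz, abs_zero, zero_add, pow_succ]
    rw [Nat.add_sub_cancel] at h
    linarith

end Groth.L11.Asymp
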