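import Groth.Agent.L11.Asymp.Growth
import Groth.Agent.L08.Cube.RelNPull

/-!
# Comparison of the cohomology of neighbouring twists on a projective variety
-/

set_option autoImplicit false
set_option backward.isDefEq.respectTransparency false
set_option linter.style.haveILetI false
set_option linter.unusedSectionVars false

universe u

open CategoryTheory CategoryTheory.Limits AlgebraicGeometry TopologicalSpace

noncomputable section

namespace Groth.L11.Asymp

open Groth.L16 Groth.L22.Nef Groth.L22.Inter Groth.L03.Euler Groth.L22.Big Groth.L11.NumOrth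
open Groth.L00.Tensor (tensorIso tensorAssoc tensorComm tensorUnitRight tensorUnitLeft tensorRightF)

attribute [local instance] Groth.L08.Cube.clMonoid

section Classes

variable {X : Scheme.{u}}

theorem cl_iff {A B : X.Modules} : PicF.cl A = PicF.cl B ↔ Nonempty (A ≅ B) := PicGrp.cl_eq_cl_iff _ _

theorem cl_mul (A B : X.Modules) : PicF.cl (CohB1.tensorMod A B) = PicF.cl A * PicF.cl B := rfl

theorem cl_O : PicF.cl (Coh.structureModule X) = 1 := rfl

theorem cl_pow (A : X.Modules) : ∀ t : ℕ, PicF.cl (CohB1.tensorPow A t) = PicF.cl A ^ t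
  | 0 => (pow_zero (PicF.cl A)).symm
  | t + 1 => by rw [pow_succ, ← cl_pow A t]; rfl

/-- The class of a product of powers. -/
def mon {r : ℕ} (L : Fin r → X.Modules) (c : Fin r → ℕ) : PicF.Cl X := ∏ j, PicF.cl (L j) ^ c j

theorem mon_add {r : ℕ} (L : Fin r → X.Modules) (c c' : Fin r → ℕ) : mon L (c + c') = mon L c * mon L c' := by
  simp only [mon, Pi.add_apply, pow_add, Finset.prod_mul_distrib]

theorem mon_zero {r : ℕ} (L : Fin r → X.Modules) : mon L 0 = 1 := by simp [mon]

theorem mon_single {r : ℕ} (L : Fin r → X.Modules) (j : Fin r) (t : ℕ) :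
    mon L (Pi.single j t) = PicF.cl (L j) ^ t := by
  rw [mon, Finset.prod_eq_single j (fun b _ hb => by rw [Pi.single_eq_of_ne hb, pow_zero])
    (fun h => absurd (Finset.mem_univ j) h), Pi.single_eq_same]

end Classes

variable (k : Type u) [Field k] {X : Scheme.{u}} [X.Over (Spec (CommRingCat.of k))]
  [IsProper (X ↘ Spec (CommRingCat.of k))]

/-- Twists by at most `S` members of the list, up to isomorphism. -/
def InWord {r : ℕ} (L : Fin r → X.Modules) (S : ℕ) (M : X.Modules) : Prop :=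
  ∃ (c : Fin r → ℕ) (N : X.Modules), ∑ j, c j ≤ S ∧ NT k N ∧ PicF.cl M = PicF.cl N * mon L c

theorem InWord.exists_word {r : ℕ} {L : Fin r → X.Modules} {S : ℕ} {M : X.Modules} (h : InWord k L S M) :
    ∃ T W, T ≤ S ∧ Word k L T W ∧ Nonempty (W ≅ M) := by
  obtain ⟨c, N, hc, hN, hM⟩ := h
  have pw : ∀ (j : Fin r) (t : ℕ) {T : ℕ} {W : X.Modules}, Word k L T W →
      ∃ W', Word k L (T + t) W' ∧ PicF.cl W' = PicF.cl W * PicF.cl (L j) ^ t := by
    intro j t
    induction t with
    | zero => exact fun {T W} hW => ⟨W, hW, by rw [pow_zero, mul_one]⟩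
    | succ t ih =>
      intro T W hW
      obtain ⟨W', hW', e⟩ := ih hW
      exact ⟨_, Word.step j hW', by rw [cl_mul, e, pow_succ, mul_assoc]⟩
  have : ∀ s : Finset (Fin r), ∃ W, Word k L (∑ j ∈ s, c j) W ∧
      PicF.cl W = PicF.cl N * ∏ j ∈ s, PicF.cl (L j) ^ c j := by
    intro s
    induction s using Finset.induction_on with
    | empty => exact ⟨N, Word.base hN, by rw [Finset.prod_empty, mul_one]⟩
    | insert j s hj ih =>
      obtain ⟨W, hW, e⟩ := ih
      obtain ⟨W', hW', e'⟩ := pw j (c j) hW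
      refine ⟨W', ?_, ?_⟩
      · rw [Finset.sum_insert hj, add_comm]
        exact hW'
      · rw [e', e, Finset.prod_insert hj, mul_assoc, mul_comm (∏ i ∈ s, PicF.cl (L i) ^ c i)]
  obtain ⟨W, hW, e⟩ := this Finset.univ
  exact ⟨_, W, hc, hW, cl_iff.1 (e.trans hM.symm)⟩

variable [IsAlgClosed k] {N : ℕ} (i : X ⟶ CohB1.ProjSpace N k) [IsClosedImmersion i]
  (hi : i ≫ CohB1.ProjSpace.toSpec N k = X ↘ Spec (CommRingCat.of k))

include hi in
/-- A common bound for the effective twists of a finite list and of all numerically trivial modules. -/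
theorem exists_eff {r : ℕ} (L : Fin r → X.Modules) (hL : ∀ j, PicF.IsInvertible (L j)) :
    ∃ a b : ℕ, (∀ j, Eff k (OX i 1) a b (L j)) ∧ ∀ P, NT k P → Eff k (OX i 1) a b P := by
  haveI := Groth.L21.RR.isNoetherian_of_proper (X := X) k
  have hA : CohB1.IsAmple (OX i 1) := isAmple_OX_one i
  obtain ⟨D, hD, -⟩ := exists_nat_dim_le k k (X := X)
  obtain ⟨m, hm⟩ := (chi_reg_bdd k i hi (D + 1)).2.1 _ (Groth.L18.Ample.isCoh_of_isInvertible
    (Groth.L18.Ample.isInvertible_structureModule X))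
    (dim_succ_iff.2 (Topology.IsInducing.subtypeVal.topologicalKrullDim_le.trans hD))
  choose p hp0 hp using fun j => Groth.L18.Ample.exists_forall_isAmple_gg hA (hL j)
  choose L' hL'i hLL' using fun j => Groth.L08.Cube.exists_inverse (hL j)
  choose p' hp'0 hp' using fun j => Groth.L18.Ample.exists_forall_isAmple_gg hA (hL'i j)
  refine ⟨m.toNat + ∑ j, p j, (m.toNat + ∑ j, p j) + ∑ j, p' j, fun j => ?_, fun P hP => ?_⟩
  · set a := m.toNat + ∑ l, p l
    set t := ∑ l, p' l
    have ha : p j ≤ a := le_trans (Finset.single_le_sum (f := p) (fun _ _ => Nat.zero_le _) (Finset.mem_univ j))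
      (Nat.le_add_left _ _)
    have ht : p' j ≤ t := Finset.single_le_sum (f := p') (fun _ _ => Nat.zero_le _) (Finset.mem_univ j)
    refine ⟨hL j, ?_, CohB1.tensorMod (CohB1.tensorPow (OX i 1) t) (L' j),
      IsNef.of_isAmple (k := k) (hp' j t ht).1, cl_iff.1 ?_⟩
    · exact Groth.L18.Ample.isGloballyGenerated_of_iso (tensorComm _ _) (hp j a ha).2
    · obtain ⟨e⟩ := hLL' j
      have he : PicF.cl (L j) * PicF.cl (L' j) = 1 := (cl_mul _ _).symm.trans ((cl_iff.2 ⟨e⟩).trans cl_O)
      simp only [cl_mul, cl_pow, pow_add]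
      calc _ = (PicF.cl (L j) * PicF.cl (L' j)) * (PicF.cl (OX i 1) ^ a * PicF.cl (OX i 1) ^ t) := by ac_rfl
        _ = _ := by rw [he, one_mul]
  · set a := m.toNat + ∑ l, p l with ha
    set t := ∑ l, p' l
    obtain ⟨Q, hQ, ⟨e⟩⟩ := hP.exists_inverse
    obtain ⟨ea⟩ := nonempty_pow_OX i a
    have hgg := (Groth.Agent.S12111.result k N i _ (isCoh_tensor hP.1 (Groth.L18.Ample.isCoh_of_isInvertible
      (Groth.L18.Ample.isInvertible_structureModule X))) m (hm P hP) (a : ℤ) (by omega)).2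
    refine ⟨hP.1, ?_, CohB1.tensorMod (CohB1.tensorPow (OX i 1) t) Q,
      ((IsNef.of_isAmple (k := k) hA).pow t).tensor hQ.nef, cl_iff.1 ?_⟩
    · exact Groth.L18.Ample.isGloballyGenerated_of_iso
        (tensorIso (tensorUnitLeft P) ea.symm) hgg
    · have he : PicF.cl P * PicF.cl Q = 1 := (cl_mul _ _).symm.trans ((cl_iff.2 ⟨e⟩).trans cl_O)
      simp only [cl_mul, cl_pow, pow_add]
      calc _ = (PicF.cl P * PicF.cl Q) * (PicF.cl (OX i 1) ^ a * PicF.cl (OX i 1) ^ t) := by ac_rfl
        _ = _ := by rw [he, one_mul]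

include hi in
/-- Modules of small support contribute in lower order. -/
theorem exists_small {a b : ℕ} (h1 : Eff k (OX i 1) a b (Coh.structureModule X)) {r : ℕ} (L : Fin r → X.Modules)
    (hL : ∀ j, Eff k (OX i 1) a b (L j)) {d : ℕ} {Q : X.Modules} (hQ : Coh.IsCoh Q)
    (hQd : topologicalKrullDim (CohB1.support Q) ≤ (d : WithBot ℕ∞)) :
    ∃ C : ℕ, ∀ S M, InWord k L S M → ∀ q, (hd k q (CohB1.tensorMod Q M) : ℝ) ≤
      ((((2 * b : ℕ) : ℚ) ^ d * dg k (OX i 1) d Q : ℚ) : ℝ) * ((S : ℝ) + 1) ^ d +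
        (C : ℝ) * ((S : ℝ) + 1) ^ d / ((S : ℝ) + 1) := by
  obtain ⟨C, hC⟩ := growth k i hi h1 L hL d Q hQ hQd
  refine ⟨C * d, fun S M hM q => ?_⟩
  obtain ⟨T, W, hT, hW, ⟨e⟩⟩ := InWord.exists_word k hM
  rw [← hd_iso k (tensorIso (Iso.refl Q) e) q]
  have h := hC T W hW q
  have hK : 0 ≤ ((2 * b : ℕ) : ℚ) ^ d * dg k (OX i 1) d Q :=
    mul_nonneg (by positivity) (dg_nonneg k i hQ hQd)
  set K := ((2 * b : ℕ) : ℚ) ^ d * dg k (OX i 1) d Q
  have hr : (hd k q (CohB1.tensorMod Q W) : ℝ) * ((T : ℝ) + 1) ≤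
      (K : ℝ) * ((T : ℝ) + 1) ^ (d + 1) + (C : ℝ) * d * ((T : ℝ) + 1) ^ d := by
    have := (Rat.cast_le (K := ℝ)).2 h
    push_cast at this ⊢
    exact this
  have hK' : (0 : ℝ) ≤ (K : ℝ) := Rat.cast_nonneg.2 hK
  set x : ℝ := (T : ℝ) + 1
  set y : ℝ := (S : ℝ) + 1
  have hxy : x ≤ y := by simp only [x, y]; gcongr
  have hx : 0 < x := by simp only [x]; positivity
  have hy : 0 < y := hx.trans_le hxy
  have h2 : (hd k q (CohB1.tensorMod Q W) : ℝ) ≤ (K : ℝ) * x ^ d + (C : ℝ) * d * x ^ d / x := by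
    rw [← mul_le_mul_iff_of_pos_right hx, add_mul, div_mul_cancel₀ _ hx.ne', mul_assoc _ (x ^ d), ← pow_succ]
    exact hr
  refine h2.trans (add_le_add (mul_le_mul_of_nonneg_left (pow_le_pow_left₀ hx.le hxy d) hK') ?_)
  push_cast
  cases d with
  | zero => simp
  | succ e =>
    rw [pow_succ, pow_succ, ← mul_assoc, ← mul_assoc, mul_div_assoc, mul_div_assoc, div_self hx.ne',
      div_self hy.ne', mul_one, mul_one]
    exact mul_le_mul_of_nonneg_left (pow_le_pow_left₀ hx.le hxy e) (by positivity)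

include hi in
/-- Twisting by a controlled module changes the cohomology in lower order only. -/
theorem exists_step [IsIntegral X] {n : ℕ} (hn : topologicalKrullDim X = n) {a b : ℕ}
    (h1 : Eff k (OX i 1) a b (Coh.structureModule X)) {r : ℕ} (L : Fin r → X.Modules)
    (hL : ∀ j, Eff k (OX i 1) a b (L j)) :
    ∃ K : ℝ, 0 ≤ K ∧ ∀ E, Eff k (OX i 1) a b E → ∃ C : ℕ, ∀ S M, InWord k L S M →
      InWord k L S (CohB1.tensorMod M E) → ∀ q,
      |(hd k q (CohB1.tensorMod M E) : ℝ) - (hd k q M : ℝ)| ≤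
        (n : ℝ) * (K * ((S : ℝ) + 1) ^ (n - 1) + (C : ℝ) * ((S : ℝ) + 1) ^ (n - 1) / ((S : ℝ) + 1)) := by
  haveI := Groth.L21.RR.isNoetherian_of_proper (X := X) k
  let G := (Coh.push (𝟙 X)).obj (Coh.structureModule X)
  let eG : G ≅ Coh.structureModule X := (Scheme.Modules.pushforwardId X).app _
  have hG : Coh.IsCoh G := CohClosedPush.isCoh_push (𝟙 X) (CohClosedPush.isCoh_structure (X := X))
  have hall : ∀ T : Set X, topologicalKrullDim T ≤ (n : WithBot ℕ∞) := fun T =>
    Topology.IsInducing.subtypeVal.topologicalKrullDim_le.trans hn.le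
  have he : 0 ≤ dg k (OX i 1) n G := dg_nonneg k i hG (hall _)
  refine ⟨((2 * (((2 * b : ℕ) : ℚ) ^ (n - 1) * (b * dg k (OX i 1) n G)) : ℚ) : ℝ),
    Rat.cast_nonneg.2 (by positivity), fun E hE => ?_⟩
  obtain ⟨s, hs⟩ := exists_gen_section k i h1 ((𝟙 X : X ⟶ X) (genericPoint X))
  obtain ⟨t, ht⟩ := exists_gen_section k i hE ((𝟙 X : X ⟶ X) (genericPoint X))
  haveI := mono_mulSection_push (𝟙 X) s hs
  haveI := mono_mulSection_push (𝟙 X) t ht
  have hAa := Groth.L18.Ample.isInvertible_tensorPow (isInvertible_OX i 1) a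
  have hsi := Groth.L18.GenLoc.isInvertible_tensor (Groth.L18.Ample.isInvertible_structureModule X) hAa
  have hti := Groth.L18.GenLoc.isInvertible_tensor hE.1 hAa
  have hQs := (CohKernel.isCoh_kernel_cokernel hG (isCoh_tensor hsi hG) (mulSection G s)).2
  have hQt := (CohKernel.isCoh_kernel_cokernel hG (isCoh_tensor hti hG) (mulSection G t)).2
  cases n with
  | zero =>
    refine ⟨0, fun S M hM hME q => ?_⟩
    have z : ∀ {P : X.Modules} (hP : PicF.IsInvertible P) (u : Coh.structureModule X ⟶ P),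
        (𝟙 X : X ⟶ X) (genericPoint X) ∈ CohB1.genLocus P u → IsZero (cokernel (mulSection G u)) := by
      intro P hP u hu
      refine (Groth.L21.Mod.isZero_iff_support_eq_empty _).2 ((support_cokernel_mulSection hG hP u).trans ?_)
      have hd : topologicalKrullDim X ≤ 0 := hn.le.trans (by simp)
      ext x
      simp only [Set.mem_sdiff, Set.mem_empty_iff_false, iff_false, not_and, not_not]
      intro _
      have hxy : x = genericPoint X := by
        by_contra hne
        have h2 := (Groth.L03.Euler.topologicalKrullDim_add_one_le (isClosed_closure (s := ({x} : Set X)))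
          isIrreducible_singleton.closure
          (T := closure {genericPoint X}) ?_ ?_)
        · have h3 := Groth.L03.Euler.zero_le_topologicalKrullDim (S := closure ({x} : Set X)) ⟨x, subset_closure rfl⟩
          have h4 := ((add_le_add_left h3 1).trans h2).trans
            (Topology.IsInducing.subtypeVal.topologicalKrullDim_le.trans hd)
          norm_num at h4
        · rw [genericPoint_closure]; exact Set.subset_univ _
        · intro e
          exact hne ((isGenericPoint_closure.eq (show IsGenericPoint (genericPoint X) (closure {x}) from e.symm)))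
      rw [hxy]
      exact hu
    have h := hd_step k i hE.1 hG s t
      (InWord.exists_word k hM |> fun ⟨_, _, _, hW, ⟨e⟩⟩ =>
        Groth.L18.Ample.isInvertible_of_iso e (Word.inv k (fun j => (hL j).1) hW)) q
    rw [hd_of_isZero k (isZero_tensor (z hsi s hs) _), hd_of_isZero k (isZero_tensor (z hti t ht) _),
      hd_iso k (tensorIso eG (Iso.refl M) ≪≫ tensorUnitLeft M),
      hd_iso k (tensorIso eG (Iso.refl (CohB1.tensorMod M E)) ≪≫ tensorUnitLeft _)] at h
    rw [hd_of_isZero k (isZero_tensor (z hti t ht) _), hd_of_isZero k (isZero_tensor (z hsi s hs) _)] at h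
    have : hd k q (CohB1.tensorMod M E) = hd k q M := by omega
    simp [this]
  | succ d =>
    have hcl : topologicalKrullDim (closure ({(𝟙 X : X ⟶ X) (genericPoint X)} : Set X)) ≤
        ((d + 1 : ℕ) : WithBot ℕ∞) := hall _
    have hds := dim_coker_mulSection k (𝟙 X) hsi s hs hcl
    have hdt := dim_coker_mulSection k (𝟙 X) hti t ht hcl
    obtain ⟨Cs, hCs⟩ := exists_small k i hi h1 L hL hQs hds
    obtain ⟨Ct, hCt⟩ := exists_small k i hi h1 L hL hQt hdt
    refine ⟨Cs + Ct, fun S M hM hME q => ?_⟩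
    obtain ⟨_, W, -, hW, ⟨eW⟩⟩ := InWord.exists_word k hM
    have hMi := Groth.L18.Ample.isInvertible_of_iso eW (Word.inv k (fun j => (hL j).1) hW)
    obtain ⟨l, l'⟩ := hd_step k i hE.1 hG s t hMi q
    rw [hd_iso k (tensorIso eG (Iso.refl M) ≪≫ tensorUnitLeft M),
      hd_iso k (tensorIso eG (Iso.refl (CohB1.tensorMod M E)) ≪≫ tensorUnitLeft _)] at l l'
    have l₁ := (Nat.cast_le (α := ℝ)).2 l
    have l₂ := (Nat.cast_le (α := ℝ)).2 l'
    push_cast at l₁ l₂
    have ds := dg_coker_le k i h1 hG (hall _) s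
    have dt := dg_coker_le k i hE hG (hall _) t
    have hB : (0 : ℚ) ≤ ((2 * b : ℕ) : ℚ) ^ d := by positivity
    have ks := (Rat.cast_le (K := ℝ)).2 (mul_le_mul_of_nonneg_left ds hB)
    have kt := (Rat.cast_le (K := ℝ)).2 (mul_le_mul_of_nonneg_left dt hB)
    have es := hCs S _ hME
    have et := hCt S _ hM
    set y : ℝ := (S : ℝ) + 1
    have hy : 0 < y := by simp only [y]; positivity
    have hy' : 0 ≤ y ^ d := by positivity
    have js := mul_le_mul_of_nonneg_right ks hy'
    have jt := mul_le_mul_of_nonneg_right kt hy'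
    rw [show d + 1 - 1 = d from rfl]
    have hD : (1 : ℝ) ≤ ((d + 1 : ℕ) : ℝ) := by simp
    have hpos : (0 : ℝ) ≤ ((2 * (((2 * b : ℕ) : ℚ) ^ d * (b * dg k (OX i 1) (d + 1) G)) : ℚ) : ℝ) * y ^ d +
        ((Cs + Ct : ℕ) : ℝ) * y ^ d / y :=
      add_nonneg (mul_nonneg (Rat.cast_nonneg.2 (by positivity)) hy') (by positivity)
    refine le_trans ?_ (le_mul_of_one_le_left hpos hD)
    have := es (q - 1)
    have := es q
    have := et (q - 1)
    have := et q
    rw [abs_le]
    push_cast at *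
    simp only [add_mul, add_div] at *
    constructor <;> linarith

end Groth.L11.Asymp
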