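import Groth.Agent.L11.Asymp.Basic
import Groth.Agent.L22.Nef.Kleiman

/-!
# Asymptotic growth of cohomology in terms of degrees

Products of `S` modules from a class whose degrees are controlled have cohomology at most
`(2b)^d deg_d(F) S^d + O(S^(d-1))`, uniformly in numerically trivial twists.
-/

set_option autoImplicit false
set_option backward.isDefEq.respectTransparency false
set_option linter.style.haveILetI false
set_option linter.unusedSectionVars false

universe u

open CategoryTheory CategoryTheory.Limits AlgebraicGeometry TopologicalSpace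

noncomputable section

namespace Groth.L11.Asymp

open Groth.L16 Groth.L22.Nef Groth.L22.Inter Groth.L03.Euler Groth.L22.Big Groth.L11.NumOrth
open Groth.L00.Tensor (tensorIso tensorAssoc tensorComm tensorUnitRight tensorUnitLeft tensorRightF)

variable (k : Type u) [Field k] {X : Scheme.{u}} [X.Over (Spec (CommRingCat.of k))]

/-- The degree of a module in dimension `d`. -/
def dg (A : X.Modules) (d : ℕ) (F : X.Modules) : ℚ := altT k (fun _ : Fin d => A) F

/-- Modules with a controlled effective twist. -/
def Eff (A : X.Modules) (a b : ℕ) (E : X.Modules) : Prop :=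
  PicF.IsInvertible E ∧ Curv2.IsGloballyGenerated (CohB1.tensorMod E (CohB1.tensorPow A a)) ∧
    ∃ R : X.Modules, IsNef k R ∧
      Nonempty (CohB1.tensorMod (CohB1.tensorMod E (CohB1.tensorPow A a)) R ≅ CohB1.tensorPow A b)

variable [IsProper (X ↘ Spec (CommRingCat.of k))]

/-- Products of modules from a finite list and a numerically trivial module. -/
inductive Word {r : ℕ} (L : Fin r → X.Modules) : ℕ → X.Modules → Prop
  | base {N : X.Modules} (h : NT k N) : Word L 0 N
  | step {S : ℕ} {M : X.Modules} (j : Fin r) (h : Word L S M) : Word L (S + 1) (CohB1.tensorMod M (L j))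

theorem Word.inv {r : ℕ} {L : Fin r → X.Modules} (hL : ∀ j, PicF.IsInvertible (L j)) {S : ℕ} {M : X.Modules}
    (h : Word k L S M) : PicF.IsInvertible M := by
  induction h with
  | base h => exact h.1
  | step j _ ih => exact Groth.L18.GenLoc.isInvertible_tensor ih (hL j)

theorem dg_cons (A : X.Modules) (d : ℕ) (F : X.Modules) :
    altT k (Fin.cons A fun _ : Fin d => A) F = dg k A (d + 1) F := by
  have : (Fin.cons A fun _ : Fin d => A : Fin (d + 1) → X.Modules) = fun _ => A := by
    funext j
    refine Fin.cases ?_ (fun j => ?_) j <;> simp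
  rw [this, dg]

theorem step_ineq (d : ℕ) {X0 Y0 P f Cs Ct C : ℚ} (hX : 1 ≤ X0) (hY : Y0 = X0 + 1) (hP : 0 ≤ P) (hf : 0 ≤ f)
    (hCs : 0 ≤ Cs) (hCt : 0 ≤ Ct) (hC : (2 : ℚ) ^ d * (Cs + Ct) ≤ C) :
    2 * (P * f) * X0 ^ (d + 1) + C * X0 ^ d + (P * f * Y0 ^ d + Cs * d * Y0 ^ d / Y0) +
        (P * f * X0 ^ d + Ct * d * X0 ^ d / X0) ≤
      2 * (P * f) * Y0 ^ (d + 1) + C * Y0 ^ d := by
  have hX0 : 0 < X0 := zero_lt_one.trans_le hX
  have hY0 : 0 < Y0 := by linarith
  have hXY : X0 ≤ Y0 := by linarith
  have h1 : X0 ^ d ≤ Y0 ^ d := pow_le_pow_left₀ hX0.le hXY d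
  have h2 : Y0 ^ d ≤ Y0 ^ (d + 1) - X0 ^ (d + 1) := by
    rw [pow_succ, pow_succ]
    have := mul_le_mul_of_nonneg_right h1 hX0.le
    rw [hY] at this ⊢
    linarith
  have h3 : Cs * d * Y0 ^ d / Y0 + Ct * d * X0 ^ d / X0 ≤ C * (Y0 ^ d - X0 ^ d) := by
    cases d with
    | zero => simp
    | succ e =>
      have gap : ∀ m : ℕ, ((m : ℚ) + 1) * X0 ^ m ≤ Y0 ^ (m + 1) - X0 ^ (m + 1) := by
        intro m
        induction m with
        | zero => simp [hY]
        | succ m ih =>
          have h := mul_le_mul_of_nonneg_right ih hX0.le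
          have h' : 0 ≤ Y0 ^ (m + 1) - X0 ^ (m + 1) := le_trans (by positivity) ih
          rw [hY] at h h' ⊢
          push_cast
          ring_nf at h h' ⊢
          nlinarith
      have gap := gap e
      have hpow : Y0 ^ e ≤ (2 : ℚ) ^ (e + 1) * X0 ^ e := by
        refine (pow_le_pow_left₀ hY0.le (show Y0 ≤ 2 * X0 by linarith) e).trans ?_
        rw [mul_pow]
        exact mul_le_mul_of_nonneg_right (pow_le_pow_right₀ one_le_two (Nat.le_succ e)) (by positivity)
      have hX' : X0 ^ e ≤ (2 : ℚ) ^ (e + 1) * X0 ^ e :=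
        le_mul_of_one_le_left (by positivity) (one_le_pow₀ one_le_two)
      rw [pow_succ Y0 e, pow_succ X0 e, ← mul_assoc, ← mul_assoc, mul_div_assoc, mul_div_assoc,
        div_self hY0.ne', div_self hX0.ne', mul_one, mul_one, ← pow_succ, ← pow_succ]
      push_cast
      calc Cs * ((e : ℚ) + 1) * Y0 ^ e + Ct * ((e : ℚ) + 1) * X0 ^ e
          ≤ Cs * ((e : ℚ) + 1) * ((2 : ℚ) ^ (e + 1) * X0 ^ e) +
              Ct * ((e : ℚ) + 1) * ((2 : ℚ) ^ (e + 1) * X0 ^ e) :=
            add_le_add (mul_le_mul_of_nonneg_left hpow (by positivity))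
              (mul_le_mul_of_nonneg_left hX' (by positivity))
        _ = (2 : ℚ) ^ (e + 1) * (Cs + Ct) * (((e : ℚ) + 1) * X0 ^ e) := by ring
        _ ≤ C * (Y0 ^ (e + 1) - X0 ^ (e + 1)) :=
            mul_le_mul hC gap (by positivity) ((by positivity : (0 : ℚ) ≤ (2 : ℚ) ^ (e + 1) * (Cs + Ct)).trans hC)
  have h4 : P * f * (Y0 ^ d + X0 ^ d) ≤ 2 * (P * f) * (Y0 ^ (d + 1) - X0 ^ (d + 1)) := by
    rw [mul_assoc 2 (P * f), mul_left_comm]
    exact mul_le_mul_of_nonneg_left (by linarith) (mul_nonneg hP hf)
  linarith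

variable [IsAlgClosed k] {n : ℕ} (i : X ⟶ CohB1.ProjSpace n k) [IsClosedImmersion i]

theorem dg_nonneg {d : ℕ} {F : X.Modules} (hF : Coh.IsCoh F)
    (h : topologicalKrullDim (CohB1.support F) ≤ (d : WithBot ℕ∞)) : 0 ≤ dg k (OX i 1) d F :=
  altT_nonneg (k := k) (isAmple_OX_one i) (fun _ => IsNef.of_isAmple (k := k) (isAmple_OX_one i)) hF h

theorem dg_add {S : ShortComplex X.Modules} (hS : S.ShortExact) (h₁ : Coh.IsCoh S.X₁) (h₂ : Coh.IsCoh S.X₂)
    (h₃ : Coh.IsCoh S.X₃) (d : ℕ) : dg k (OX i 1) d S.X₂ = dg k (OX i 1) d S.X₁ + dg k (OX i 1) d S.X₃ := by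
  haveI := Groth.L21.RR.isNoetherian_of_proper (X := X) k
  haveI := hS.mono_f
  have hA : ∀ _ : Fin d, PicF.IsInvertible (OX i 1) := fun _ => isInvertible_OX i 1
  have hm := altT_map k hA h₁ h₂ S.f
  have hk : altT k (fun _ : Fin d => (OX i 1)) (kernel S.f) = 0 := by
    rw [altT, twEuler_of_isZero k hA (isZero_kernel_of_mono S.f), map_zero]
  haveI : Epi S.g := hS.epi_g
  have he : altT k (fun _ : Fin d => OX i 1) (cokernel S.f) = altT k (fun _ : Fin d => OX i 1) S.X₃ :=
    altT_iso k _ (IsColimit.coconePointUniqueUpToIso (cokernelIsCokernel S.f) hS.gIsCokernel : cokernel S.f ≅ S.X₃)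
  rw [he, hk] at hm
  simp only [dg]
  linarith

/-- The divisor of a section of a controlled twist has controlled degree. -/
theorem dg_coker_le {a b : ℕ} {E : X.Modules} (hE : Eff k (OX i 1) a b E) {d : ℕ} {G : X.Modules} (hG : Coh.IsCoh G)
    (hd : topologicalKrullDim (CohB1.support G) ≤ ((d + 1 : ℕ) : WithBot ℕ∞))
    (t : Coh.structureModule X ⟶ CohB1.tensorMod E (CohB1.tensorPow (OX i 1) a)) [Mono (mulSection G t)] :
    dg k (OX i 1) d (cokernel (mulSection G t)) ≤ b * dg k (OX i 1) (d + 1) G := by
  haveI := Groth.L21.RR.isNoetherian_of_proper (X := X) k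
  obtain ⟨hEi, -, R, hR, ⟨e⟩⟩ := hE
  let P := CohB1.tensorMod E (CohB1.tensorPow (OX i 1) a)
  have hP : PicF.IsInvertible P := Groth.L18.GenLoc.isInvertible_tensor hEi
    (Groth.L18.Ample.isInvertible_tensorPow (isInvertible_OX i 1) a)
  have hA : ∀ _ : Fin d, PicF.IsInvertible (OX i 1) := fun _ => isInvertible_OX i 1
  have hm := altT_map k hA hG (isCoh_tensor hP hG) (mulSection G t)
  have hk : altT k (fun _ : Fin d => (OX i 1)) (kernel (mulSection G t)) = 0 := by
    rw [altT, twEuler_of_isZero k hA (isZero_kernel_of_mono _), map_zero]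
  have h1 : dg k (OX i 1) d (cokernel (mulSection G t)) = altT k (Fin.cons P fun _ : Fin d => (OX i 1)) G := by
    rw [altT_cons]
    simp only [dg]
    linarith
  have h2 := altT_add k hA hP hR.1 hG hd
  rw [altT_slot_congr k e, altT_pow k hA (isInvertible_OX i 1) hG hd b, dg_cons k] at h2
  have h3 : 0 ≤ altT k (Fin.cons R fun _ : Fin d => (OX i 1)) G := by
    refine altT_nonneg (k := k) (isAmple_OX_one i) (fun j => ?_) hG hd
    refine Fin.cases ?_ (fun j => ?_) j
    · simpa using hR
    · simpa using IsNef.of_isAmple (k := k) (isAmple_OX_one i)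
  linarith

section Step

variable {a b : ℕ} {E : X.Modules} (hE : PicF.IsInvertible E) {G : X.Modules} (hG : Coh.IsCoh G)
  (s : Coh.structureModule X ⟶ CohB1.tensorMod (Coh.structureModule X) (CohB1.tensorPow (OX i 1) a))
  (t : Coh.structureModule X ⟶ CohB1.tensorMod E (CohB1.tensorPow (OX i 1) a))
  [Mono (mulSection G s)] [Mono (mulSection G t)] {M : X.Modules} (hM : PicF.IsInvertible M)

include hE hG hM in
/-- Comparison of a twist with the next one. -/
theorem hd_step (q : ℕ) :
    hd k q (CohB1.tensorMod G (CohB1.tensorMod M E)) ≤ hd k q (CohB1.tensorMod G M) +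
        hd k (q - 1) (CohB1.tensorMod (cokernel (mulSection G s)) (CohB1.tensorMod M E)) +
        hd k q (CohB1.tensorMod (cokernel (mulSection G t)) M) ∧
    hd k q (CohB1.tensorMod G M) ≤ hd k q (CohB1.tensorMod G (CohB1.tensorMod M E)) +
        hd k (q - 1) (CohB1.tensorMod (cokernel (mulSection G t)) M) +
        hd k q (CohB1.tensorMod (cokernel (mulSection G s)) (CohB1.tensorMod M E)) := by
  haveI := Groth.L21.RR.isNoetherian_of_proper (X := X) k
  let Aa := CohB1.tensorPow (OX i 1) a
  have hAa : PicF.IsInvertible Aa := Groth.L18.Ample.isInvertible_tensorPow (isInvertible_OX i 1) a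
  have hs' := Groth.L18.GenLoc.isInvertible_tensor (Groth.L18.Ample.isInvertible_structureModule X) hAa
  have ht' := Groth.L18.GenLoc.isInvertible_tensor hE hAa
  have hME := Groth.L18.GenLoc.isInvertible_tensor hM hE
  have hGs := isCoh_tensor hs' hG
  have hGt := isCoh_tensor ht' hG
  have hQs := (CohKernel.isCoh_kernel_cokernel hG hGs (mulSection G s)).2
  have hQt := (CohKernel.isCoh_kernel_cokernel hG hGt (mulSection G t)).2
  have Ss : (ShortComplex.mk (mulSection G s) (cokernel.π _) (cokernel.condition _)).ShortExact :=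
    { exact := ShortComplex.exact_cokernel _ }
  have St : (ShortComplex.mk (mulSection G t) (cokernel.π _) (cokernel.condition _)).ShortExact :=
    { exact := ShortComplex.exact_cokernel _ }
  have Ts := shortExact_tensor hME Ss
  have Tt := shortExact_tensor hM St
  have e : CohB1.tensorMod (CohB1.tensorMod G (CohB1.tensorMod (Coh.structureModule X) Aa)) (CohB1.tensorMod M E) ≅
      CohB1.tensorMod (CohB1.tensorMod G (CohB1.tensorMod E Aa)) M :=
    tensorAssoc _ _ _ ≪≫ tensorIso (Iso.refl G) (tensorIso (tensorUnitLeft Aa) (tensorComm M E) ≪≫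
      (tensorAssoc Aa E M).symm ≪≫ tensorIso (tensorComm Aa E) (Iso.refl M)) ≪≫ (tensorAssoc _ _ _).symm
  have l1 := hd_left_le k Ts (isCoh_tensor hME hG) (isCoh_tensor hME hGs) (isCoh_tensor hME hQs) q
  have m1 := hd_mid_le k Ts (isCoh_tensor hME hG) (isCoh_tensor hME hGs) (isCoh_tensor hME hQs) q
  have l2 := hd_left_le k Tt (isCoh_tensor hM hG) (isCoh_tensor hM hGt) (isCoh_tensor hM hQt) q
  have m2 := hd_mid_le k Tt (isCoh_tensor hM hG) (isCoh_tensor hM hGt) (isCoh_tensor hM hQt) q
  have he := hd_iso k e q
  simp only [ShortComplex.map_X₁, ShortComplex.map_X₂, ShortComplex.map_X₃] at l1 m1 l2 m2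
  constructor
  · exact l1.trans (by
      change hd k q (CohB1.tensorMod (CohB1.tensorMod G (CohB1.tensorMod (Coh.structureModule X) Aa))
        (CohB1.tensorMod M E)) + hd k (q - 1) (CohB1.tensorMod (cokernel (mulSection G s)) (CohB1.tensorMod M E)) ≤ _
      rw [he]
      exact (Nat.add_le_add_right m2 _).trans (le_of_eq (by
        show hd k q (CohB1.tensorMod G M) + hd k q (CohB1.tensorMod (cokernel (mulSection G t)) M) + _ = _
        omega)))
  · exact l2.trans (by
      change hd k q (CohB1.tensorMod (CohB1.tensorMod G (CohB1.tensorMod E Aa)) M) +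
        hd k (q - 1) (CohB1.tensorMod (cokernel (mulSection G t)) M) ≤ _
      rw [← he]
      exact (Nat.add_le_add_right m1 _).trans (le_of_eq (by
        show hd k q (CohB1.tensorMod G (CohB1.tensorMod M E)) +
          hd k q (CohB1.tensorMod (cokernel (mulSection G s)) (CohB1.tensorMod M E)) + _ = _
        omega)))

end Step

/-- The bound to be propagated. -/
def Bound (a b : ℕ) {r : ℕ} (L : Fin r → X.Modules) (d : ℕ) (F : X.Modules) : Prop :=
  ∃ C : ℕ, ∀ S M, Word k L S M → ∀ q,
    (hd k q (CohB1.tensorMod F M) : ℚ) * ((S : ℚ) + 1) ≤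
      ((2 * b : ℕ) : ℚ) ^ d * dg k (OX i 1) d F * ((S : ℚ) + 1) ^ (d + 1) + (C : ℚ) * d * ((S : ℚ) + 1) ^ d

theorem exists_gen_section {a b : ℕ} {E : X.Modules} (hE : Eff k (OX i 1) a b E) (x : X) :
    ∃ t : Coh.structureModule X ⟶ CohB1.tensorMod E (CohB1.tensorPow (OX i 1) a),
      x ∈ CohB1.genLocus _ t :=
  Groth.L18.Ample.exists_genLocus_mem_of_gg (Groth.L18.GenLoc.isInvertible_tensor hE.1
    (Groth.L18.Ample.isInvertible_tensorPow (isInvertible_OX i 1) a)) hE.2.1 x

theorem mono_mulSection_push {Z : Scheme.{u}} [IsIntegral Z] [IsLocallyNoetherian Z] (z : Z ⟶ X) [IsClosedImmersion z]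
    {N : X.Modules} (t : Coh.structureModule X ⟶ N) (ht : z (genericPoint Z) ∈ CohB1.genLocus N t) :
    Mono (mulSection ((Coh.push z).obj (Coh.structureModule Z)) t) :=
  CohClosedPush.mono_of_injective_generic z _ (bijective_mulSection _ t ht).1

include k in
theorem dim_coker_mulSection {Z : Scheme.{u}} [IsIntegral Z] [IsLocallyNoetherian Z] (z : Z ⟶ X) [IsClosedImmersion z]
    {N : X.Modules} (hN : PicF.IsInvertible N) (t : Coh.structureModule X ⟶ N)
    (ht : z (genericPoint Z) ∈ CohB1.genLocus N t) {d : ℕ}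
    (hd : topologicalKrullDim (closure ({z (genericPoint Z)} : Set X)) ≤ ((d + 1 : ℕ) : WithBot ℕ∞)) :
    topologicalKrullDim (CohB1.support (cokernel (mulSection ((Coh.push z).obj (Coh.structureModule Z)) t))) ≤
      (d : WithBot ℕ∞) := by
  haveI := Groth.L21.RR.isNoetherian_of_proper (X := X) k
  have hO := CohClosedPush.isCoh_push z (CohClosedPush.isCoh_structure (X := Z))
  have hQ := (CohKernel.isCoh_kernel_cokernel hO (isCoh_tensor hN hO)
    (mulSection ((Coh.push z).obj (Coh.structureModule Z)) t)).2
  have hs := support_cokernel_mulSection hO hN t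
  exact dim_succ_iff.1 ((Groth.L03.Euler.topologicalKrullDim_add_one_le (CohSupport.isClosed_support _ hQ.2)
    isIrreducible_singleton.closure (hs.le.trans (Set.sdiff_subset.trans
      ((CohClosedPush.support_push_subset z _).trans (range_eq_closure z).le)))
    fun e => by
      have : z (genericPoint Z) ∈ CohB1.support (cokernel (mulSection ((Coh.push z).obj (Coh.structureModule Z)) t)) :=
        e ▸ subset_closure rfl
      rw [hs] at this
      exact this.2 ht).trans hd)

variable (hi : i ≫ CohB1.ProjSpace.toSpec n k = X ↘ Spec (CommRingCat.of k))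

include hi in
/-- Growth of cohomology along words. -/
theorem growth {a b : ℕ} (h1 : Eff k (OX i 1) a b (Coh.structureModule X)) {r : ℕ} (L : Fin r → X.Modules)
    (hL : ∀ j, Eff k (OX i 1) a b (L j)) : ∀ (d : ℕ) (F : X.Modules), Coh.IsCoh F →
      topologicalKrullDim (CohB1.support F) ≤ (d : WithBot ℕ∞) → Bound k i a b L d F := by
  haveI := Groth.L21.RR.isNoetherian_of_proper (X := X) k
  intro d
  induction d with
  | zero =>
    intro F hF hd
    refine ⟨0, fun S M hM q => ?_⟩
    have h := hd_zero_dim k hF hd (Word.inv k (fun j => (hL j).1) hM) q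
    have hS : (0 : ℚ) ≤ (S : ℚ) + 1 := by positivity
    have : (Fin.elim0 : Fin 0 → X.Modules) = fun _ => (OX i 1) := funext fun j => j.elim0
    rw [this] at h
    simpa [dg] using mul_le_mul_of_nonneg_right h hS
  | succ d ih =>
    intro M hM hd'
    refine Devissage.devissage_ideals
      (fun F : X.Modules => topologicalKrullDim (CohB1.support F) ≤ ((d + 1 : ℕ) : WithBot ℕ∞) →
        Bound k i a b L (d + 1) F) ?_ ?_ ?_ ?_ hM hd'
    · rintro A B ⟨e⟩ hA hB
      obtain ⟨C, hC⟩ := hA ((topologicalKrullDim_set_mono (Groth.L21.Mod.support_mono e.hom)).trans hB)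
      refine ⟨C, fun S W hW q => ?_⟩
      rw [← hd_iso k (tensorIso e (Iso.refl W)), dg, ← altT_iso k _ e]
      exact hC S W hW q
    · intro A hA _
      refine ⟨0, fun S W hW q => ?_⟩
      rw [hd_of_isZero k (isZero_tensor hA W) q, dg, altT,
        twEuler_of_isZero k (fun _ => isInvertible_OX i 1) hA, map_zero]
      simp
    · intro T hT c₁ c₂ c₃ p₁ p₃ h₂
      obtain ⟨s1, s3⟩ := Devissage.support_union hT
      obtain ⟨C₁, hC₁⟩ := p₁ ((topologicalKrullDim_set_mono s1).trans h₂)
      obtain ⟨C₃, hC₃⟩ := p₃ ((topologicalKrullDim_set_mono s3).trans h₂)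
      refine ⟨C₁ + C₃, fun S W hW q => ?_⟩
      have hWi := Word.inv k (fun j => (hL j).1) hW
      have h := hd_mid_le k (shortExact_tensor hWi hT) (isCoh_tensor hWi c₁) (isCoh_tensor hWi c₂)
        (isCoh_tensor hWi c₃) q
      have hq : (hd k q (CohB1.tensorMod T.X₂ W) : ℚ) ≤
          (hd k q (CohB1.tensorMod T.X₁ W) : ℚ) + (hd k q (CohB1.tensorMod T.X₃ W) : ℚ) := by exact_mod_cast h
      have := mul_le_mul_of_nonneg_right hq (show (0 : ℚ) ≤ (S : ℚ) + 1 by positivity)
      rw [dg_add k i hT c₁ c₂ c₃]
      push_cast at *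
      linear_combination this + hC₁ S W hW q + hC₃ S W hW q
    · intro Z z hz hZ I ι hι hI hId
      haveI := hz; haveI := hZ; haveI := hι; haveI := hI
      haveI : IsLocallyNoetherian Z := LocallyOfFiniteType.isLocallyNoetherian z
      haveI : (Coh.push z).IsRightAdjoint := (Scheme.Modules.pullbackPushforwardAdjunction z).isRightAdjoint
      let O := (Coh.push z).obj (Coh.structureModule Z)
      have hO : Coh.IsCoh O := CohClosedPush.isCoh_push z CohClosedPush.isCoh_structure
      let μ : (Coh.push z).obj I ⟶ O := (Coh.push z).map ι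
      haveI : Mono μ := inferInstance
      have hIc : Coh.IsCoh ((Coh.push z).obj I) :=
        CohClosedPush.isCoh_push z (Groth.L16.Rees.RelVanish.isCoh_of_mono ι CohClosedPush.isCoh_structure)
      -- bounds in lower dimension are bounds here
      have low : ∀ F : X.Modules, Coh.IsCoh F → topologicalKrullDim (CohB1.support F) ≤ (d : WithBot ℕ∞) →
          Bound k i a b L (d + 1) F := by
        intro F hF hFd
        obtain ⟨C, hC⟩ := ih F hF hFd
        obtain ⟨c, hc⟩ := exists_nat_ge (((2 * b : ℕ) : ℚ) ^ d * dg k (OX i 1) d F + C * d)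
        refine ⟨c, fun S W hW q => ?_⟩
        have h0 : dg k (OX i 1) (d + 1) F = 0 :=
          altT_eq_zero k (fun _ => isInvertible_OX i 1) hF ((add_le_add_left hFd 1).trans (by norm_cast))
        rw [h0, mul_zero, zero_mul, zero_add]
        refine (hC S W hW q).trans ?_
        have hX : (1 : ℚ) ≤ (S : ℚ) + 1 := le_add_of_nonneg_left (Nat.cast_nonneg S)
        have hp : ((S : ℚ) + 1) ^ d ≤ ((S : ℚ) + 1) ^ (d + 1) := pow_le_pow_right₀ hX (Nat.le_succ d)
        have hp0 : (0 : ℚ) ≤ ((S : ℚ) + 1) ^ (d + 1) := by positivity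
        have := mul_le_mul_of_nonneg_left hp (show (0 : ℚ) ≤ (C : ℚ) * d by positivity)
        have := mul_le_mul_of_nonneg_right hc hp0
        have : (c : ℚ) * ((S : ℚ) + 1) ^ (d + 1) ≤ (c : ℚ) * ((d + 1 : ℕ) : ℚ) * ((S : ℚ) + 1) ^ (d + 1) :=
          mul_le_mul_of_nonneg_right (le_mul_of_one_le_right (Nat.cast_nonneg c) (by simp)) hp0
        linarith
      by_cases hη : z (genericPoint Z) ∈ CohB1.support ((Coh.push z).obj I)
      swap
      · have h0' := isZero_of_mono_push z μ hη
        refine low _ hIc ?_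
        rw [(Groth.L21.Mod.isZero_iff_support_eq_empty _).1 h0', topologicalKrullDim_of_empty rfl]
        exact bot_le
      have hcl : topologicalKrullDim (closure ({z (genericPoint Z)} : Set X)) ≤ ((d + 1 : ℕ) : WithBot ℕ∞) :=
        (topologicalKrullDim_set_mono (closure_minimal (Set.singleton_subset_iff.2 hη)
          (CohSupport.isClosed_support _ hIc.2))).trans hId
      -- the structure sheaf of the subscheme
      have hOb : Bound k i a b L (d + 1) O := by
        have hOd : topologicalKrullDim (CohB1.support O) ≤ ((d + 1 : ℕ) : WithBot ℕ∞) :=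
          (topologicalKrullDim_set_mono ((CohClosedPush.support_push_subset z _).trans (range_eq_closure z).le)).trans hcl
        obtain ⟨C₀, hC₀⟩ := exists_hd_le k i hi hO
        obtain ⟨s, hs⟩ := exists_gen_section k i h1 (z (genericPoint Z))
        choose t ht using fun j => exists_gen_section k i (hL j) (z (genericPoint Z))
        haveI := mono_mulSection_push z s hs
        haveI := fun j => mono_mulSection_push z (t j) (ht j)
        have hAa := Groth.L18.Ample.isInvertible_tensorPow (isInvertible_OX i 1) a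
        have hsi := Groth.L18.GenLoc.isInvertible_tensor (Groth.L18.Ample.isInvertible_structureModule X) hAa
        have hti := fun j => Groth.L18.GenLoc.isInvertible_tensor (hL j).1 hAa
        obtain ⟨Cs, hCs⟩ := ih _ (CohKernel.isCoh_kernel_cokernel hO (isCoh_tensor hsi hO) (mulSection O s)).2
          (dim_coker_mulSection k z hsi s hs hcl)
        choose Ct hCt using fun j => ih _ (CohKernel.isCoh_kernel_cokernel hO (isCoh_tensor (hti j) hO)
          (mulSection O (t j))).2 (dim_coker_mulSection k z (hti j) (t j) (ht j) hcl)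
        let C' := C₀ + 2 ^ d * (Cs + ∑ j, Ct j)
        refine ⟨C', fun S W hW => ?_⟩
        have he := dg_nonneg k i hO hOd
        have main : ∀ q, (hd k q (CohB1.tensorMod O W) : ℚ) ≤
            ((2 * b : ℕ) : ℚ) ^ (d + 1) * dg k (OX i 1) (d + 1) O * ((S : ℚ) + 1) ^ (d + 1) +
              (C' : ℚ) * ((S : ℚ) + 1) ^ d := by
          induction hW with
          | @base N hN =>
            intro q
            have h0 : (hd k q (CohB1.tensorMod O N) : ℚ) ≤ (C' : ℚ) :=
              Nat.cast_le.2 ((hC₀ N hN q).trans (by simp only [C']; omega))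
            have : 0 ≤ ((2 * b : ℕ) : ℚ) ^ (d + 1) * dg k (OX i 1) (d + 1) O := mul_nonneg (by positivity) he
            simpa using h0.trans (le_add_of_nonneg_left this)
          | @step S W j hW ihW =>
            intro q
            have hWi := Word.inv k (fun j => (hL j).1) hW
            have hstep : (hd k q (CohB1.tensorMod O (CohB1.tensorMod W (L j))) : ℚ) ≤
                (hd k q (CohB1.tensorMod O W) : ℚ) +
                (hd k (q - 1) (CohB1.tensorMod (cokernel (mulSection O s)) (CohB1.tensorMod W (L j))) : ℚ) +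
                (hd k q (CohB1.tensorMod (cokernel (mulSection O (t j))) W) : ℚ) := by
              exact_mod_cast (hd_step k i (hL j).1 hO s (t j) hWi q).1
            have hs' := hCs (S + 1) _ (Word.step j hW) (q - 1)
            have ht' := hCt j S W hW q
            have ds := dg_coker_le k i h1 hO hOd s
            have dt := dg_coker_le k i (hL j) hO hOd (t j)
            set X0 : ℚ := (S : ℚ) + 1
            set Y0 : ℚ := ((S + 1 : ℕ) : ℚ) + 1
            set e := dg k (OX i 1) (d + 1) O
            set B : ℚ := ((2 * b : ℕ) : ℚ)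
            have hX : 1 ≤ X0 := le_add_of_nonneg_left (Nat.cast_nonneg S)
            have hY : Y0 = X0 + 1 := by simp [X0, Y0]
            have hB : 0 ≤ B := Nat.cast_nonneg _
            -- divide the bounds for the two divisors
            have bs : (hd k (q - 1) (CohB1.tensorMod (cokernel (mulSection O s)) (CohB1.tensorMod W (L j))) : ℚ) * Y0 ≤
                (B ^ d * (b * e) * Y0 ^ d + (Cs : ℚ) * d * Y0 ^ d / Y0) * Y0 := by
              rw [add_mul, div_mul_cancel₀ _ (by positivity)]
              refine hs'.trans (add_le_add ?_ le_rfl)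
              rw [pow_succ]
              have := mul_le_mul_of_nonneg_left ds (pow_nonneg hB d)
              nlinarith [mul_le_mul_of_nonneg_right this (show 0 ≤ Y0 ^ d * Y0 by positivity)]
            have bs' := le_of_mul_le_mul_right bs (by positivity)
            have bt : (hd k q (CohB1.tensorMod (cokernel (mulSection O (t j))) W) : ℚ) * X0 ≤
                (B ^ d * (b * e) * X0 ^ d + (Ct j : ℚ) * d * X0 ^ d / X0) * X0 := by
              rw [add_mul, div_mul_cancel₀ _ (by positivity)]
              refine ht'.trans (add_le_add ?_ le_rfl)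
              rw [pow_succ]
              have := mul_le_mul_of_nonneg_left dt (pow_nonneg hB d)
              nlinarith [mul_le_mul_of_nonneg_right this (show 0 ≤ X0 ^ d * X0 by positivity)]
            have bt' := le_of_mul_le_mul_right bt (by positivity)
            have hC' : (2 : ℚ) ^ d * ((Cs : ℚ) + (Ct j : ℚ)) ≤ (C' : ℚ) := by
              have h1 := Finset.single_le_sum (f := Ct) (fun _ _ => Nat.zero_le _) (Finset.mem_univ j)
              exact_mod_cast (show 2 ^ d * (Cs + Ct j) ≤ C' from
                (Nat.mul_le_mul_left _ (Nat.add_le_add_left h1 _)).trans (Nat.le_add_left _ _))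
            refine (hstep.trans (add_le_add (add_le_add (ihW q) bs') bt')).trans ?_
            have := step_ineq d hX hY (pow_nonneg hB d) (mul_nonneg (Nat.cast_nonneg b) he)
              (Nat.cast_nonneg Cs) (Nat.cast_nonneg (Ct j)) hC'
            refine le_trans (le_of_eq ?_) (this.trans (le_of_eq ?_))
            · simp only [B]; push_cast; ring
            · simp only [B]; push_cast; ring
        intro q
        have := mul_le_mul_of_nonneg_right (main q) (show (0 : ℚ) ≤ (S : ℚ) + 1 by positivity)
        have hp0 : (0 : ℚ) ≤ (C' : ℚ) * ((S : ℚ) + 1) ^ (d + 1) * d := by positivity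
        push_cast at *
        linear_combination this + hp0
      -- the ideal
      have hIc' := hIc
      have hQc : Coh.IsCoh (cokernel μ) := (CohKernel.isCoh_kernel_cokernel hIc hO μ).2
      have Sμ : (ShortComplex.mk μ (cokernel.π μ) (cokernel.condition _)).ShortExact :=
        { exact := ShortComplex.exact_cokernel _ }
      have hQy : z (genericPoint Z) ∉ CohB1.support (cokernel μ) := by
        rw [← CohSupport.len_eq_zero_iff]
        have hadd : CohSupport.len (z (genericPoint Z)) O =
            CohSupport.len (z (genericPoint Z)) ((Coh.push z).obj I) +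
            CohSupport.len (z (genericPoint Z)) (cokernel μ) := CohSupport.len_add Sμ (z (genericPoint Z))
        have hO1 : CohSupport.len (z (genericPoint Z)) O = 1 := CohClosedPush.len_push_structure z
        have hI0 : CohSupport.len (z (genericPoint Z)) ((Coh.push z).obj I) ≠ 0 := fun h =>
          (CohSupport.len_eq_zero_iff _ _).1 h hη
        rw [hO1] at hadd
        generalize CohSupport.len (z (genericPoint Z)) ((Coh.push z).obj I) = u at hadd hI0
        generalize CohSupport.len (z (genericPoint Z)) (cokernel μ) = v at hadd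
        induction u using ENat.recTopCoe with
        | top => simp at hadd
        | coe u =>
          induction v using ENat.recTopCoe with
          | top => simp at hadd
          | coe v =>
            have h1 : 1 = u + v := by exact_mod_cast hadd
            have h2 : u ≠ 0 := fun h => hI0 (by simp [h])
            have h3 : v = 0 := by omega
            simp [h3]
      have hQd : topologicalKrullDim (CohB1.support (cokernel μ)) ≤ (d : WithBot ℕ∞) :=
        dim_succ_iff.1 ((Groth.L03.Euler.topologicalKrullDim_add_one_le (CohSupport.isClosed_support _ hQc.2)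
          isIrreducible_singleton.closure ((Groth.L21.Mod.support_epi (cokernel.π μ)).trans
            ((CohClosedPush.support_push_subset z _).trans (range_eq_closure z).le))
          fun e => hQy (e ▸ subset_closure rfl)).trans hcl)
      obtain ⟨Co, hCo⟩ := hOb
      obtain ⟨Cq, hCq⟩ := low _ hQc hQd
      refine ⟨Co + Cq, fun S W hW q => ?_⟩
      have hWi := Word.inv k (fun j => (hL j).1) hW
      have hdg : dg k (OX i 1) (d + 1) ((Coh.push z).obj I) = dg k (OX i 1) (d + 1) O := by
        have h := dg_add k i Sμ hIc hO hQc (d + 1)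
        have h0 : dg k (OX i 1) (d + 1) (cokernel μ) = 0 :=
          altT_eq_zero k (fun _ => isInvertible_OX i 1) hQc ((add_le_add_left hQd 1).trans (by norm_cast))
        rw [h0, add_zero] at h
        exact h.symm
      have h := hd_left_le k (shortExact_tensor hWi Sμ) (isCoh_tensor hWi hIc) (isCoh_tensor hWi hO)
        (isCoh_tensor hWi hQc) q
      have hq : (hd k q (CohB1.tensorMod ((Coh.push z).obj I) W) : ℚ) ≤
          (hd k q (CohB1.tensorMod O W) : ℚ) + (hd k (q - 1) (CohB1.tensorMod (cokernel μ) W) : ℚ) := by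
        exact_mod_cast h
      have hm := mul_le_mul_of_nonneg_right hq (show (0 : ℚ) ≤ (S : ℚ) + 1 by positivity)
      have hoq := hCq S W hW (q - 1)
      rw [altT_eq_zero k (fun _ => isInvertible_OX i 1) hQc ((add_le_add_left hQd 1).trans (by norm_cast)) |> fun h =>
        (show dg k (OX i 1) (d + 1) (cokernel μ) = 0 from h)] at hoq
      rw [hdg]
      push_cast at *
      linear_combination hm + hCo S W hW q + hoq

end Groth.L11.Asymp
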