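import Groth.Agent.L11.Asymp.Compare
import Groth.Agent.S9710
import Groth.Agent.L12.GenusZero.Apps
import Groth.Prelude.Def_W4c5asymptcohfnACF
import Mathlib.Topology.Algebra.Order.LiminfLimsup

/-!
# Asymptotic cohomological functions: comparison of upper limits
-/

set_option autoImplicit false
set_option backward.isDefEq.respectTransparency false
set_option linter.style.haveILetI false
set_option linter.unusedSectionVars false

universe u

open CategoryTheory CategoryTheory.Limits AlgebraicGeometry TopologicalSpace Filter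
open scoped Topology

noncomputable section

namespace Groth.L11.Asymp

open Groth.L16 Groth.L22.Nef Groth.L22.Inter Groth.L03.Euler Groth.L22.Big Groth.L11.NumOrth
open Groth.L00.Tensor (tensorIso tensorAssoc tensorComm tensorUnitRight tensorUnitLeft tensorRightF)

attribute [local instance] Groth.L08.Cube.clMonoid

/-- The error of one step. -/
def bd (n : ℕ) (K : ℝ) (C : ℕ) (S : ℕ) : ℝ :=
  (n : ℝ) * (K * ((S : ℝ) + 1) ^ (n - 1) + (C : ℝ) * ((S : ℝ) + 1) ^ (n - 1) / ((S : ℝ) + 1))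

theorem bd_nonneg {n : ℕ} {K : ℝ} (hK : 0 ≤ K) (C S : ℕ) : 0 ≤ bd n K C S := by
  rw [bd]; positivity

theorem bd_mono {n : ℕ} {K : ℝ} {C C' : ℕ} (hC : C ≤ C') (S : ℕ) : bd n K C S ≤ bd n K C' S := by
  rw [bd, bd]; gcongr

/-- The normalised error converges. -/
theorem tendsto_err (n : ℕ) (K : ℝ) (C : ℕ) {s : ℕ} (hs : 1 ≤ s) (α β : ℝ) :
    Tendsto (fun m : ℕ => (α * m + β) * bd n K C (s * m) * (n.factorial : ℝ) / (m : ℝ) ^ n) atTop
      (𝓝 (α * n * K * n.factorial * (s : ℝ) ^ (n - 1))) := by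
  cases n with
  | zero => simp [bd]
  | succ d =>
    have h1 : Tendsto (fun m : ℕ => (1 : ℝ) / m) atTop (𝓝 0) := tendsto_one_div_atTop_nhds_zero_nat
    have h2 : Tendsto (fun m : ℕ => (1 : ℝ) / (((s * m : ℕ) : ℝ) + 1)) atTop (𝓝 0) :=
      tendsto_one_div_add_atTop_nhds_zero_nat.comp
        (tendsto_atTop_mono (fun m => Nat.le_mul_of_pos_left m hs) tendsto_id)
    have h := (((h1.const_mul β).const_add α).mul
      ((h2.const_mul (C : ℝ)).const_add K)).mul ((h1.const_add (s : ℝ)).pow d)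
    have h' := h.mul_const (((d + 1 : ℕ) : ℝ) * ((d + 1).factorial : ℝ))
    refine Tendsto.congr' ?_ (h'.trans_eq (by congr 1; simp only [Nat.add_sub_cancel]; ring))
    filter_upwards [eventually_gt_atTop 0] with m hm
    have hm' : (0 : ℝ) < m := by exact_mod_cast hm
    rw [bd, Nat.add_sub_cancel, show (s : ℝ) + 1 / m = (((s * m : ℕ) : ℝ) + 1) / m by push_cast; field_simp,
      div_pow, pow_succ (m : ℝ)]
    field_simp

/-- Sequences with small difference have close upper limits. -/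
theorem limsup_le_add {u v e : ℕ → ℝ} {δ B : ℝ} (hu : ∀ m, 0 ≤ u m) (hv : ∀ᶠ m in atTop, v m ≤ B)
    (he : Tendsto e atTop (𝓝 δ)) (h : ∀ᶠ m in atTop, u m ≤ v m + e m) :
    limsup u atTop ≤ limsup v atTop + δ := by
  refine le_of_forall_pos_le_add fun ε hε => limsup_le_of_le
    (IsBoundedUnder.isCoboundedUnder_le ⟨0, eventually_map.2 (Eventually.of_forall hu)⟩) ?_
  filter_upwards [eventually_lt_of_limsup_lt (lt_add_of_pos_right (limsup v atTop) (half_pos hε))
    ⟨B, eventually_map.2 hv⟩, he.eventually_le_const (lt_add_of_pos_right δ (half_pos hε)), h] with m h1 h2 h3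
  linarith

theorem abs_limsup_sub_le {u v e : ℕ → ℝ} {δ B : ℝ} (hu : ∀ m, 0 ≤ u m) (hv0 : ∀ m, 0 ≤ v m)
    (hv : ∀ᶠ m in atTop, v m ≤ B) (he : Tendsto e atTop (𝓝 δ)) (h : ∀ᶠ m in atTop, |u m - v m| ≤ e m) :
    |limsup u atTop - limsup v atTop| ≤ δ := by
  have hub : ∀ᶠ m in atTop, u m ≤ B + (δ + 1) := by
    filter_upwards [hv, h, he.eventually_le_const (lt_add_one δ)] with m h1 h2 h3
    linarith [(abs_le.1 h2).2]
  have a1 := limsup_le_add hu hv he (h.mono fun m hm => by linarith [(abs_le.1 hm).2])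
  have a2 := limsup_le_add hv0 hub he (h.mono fun m hm => by linarith [(abs_le.1 hm).1])
  rw [abs_le]; constructor <;> linarith

variable (k : Type u) [Field k] {X : Scheme.{u}} [X.Over (Spec (CommRingCat.of k))]

/-- Normalised dimensions along a sequence of modules. -/
def sq (n q : ℕ) (f : ℕ → X.Modules) (m : ℕ) : ℝ := (hd k q (f m) : ℝ) * (n.factorial : ℝ) / (m : ℝ) ^ n

theorem sq_nonneg' (n q : ℕ) (f : ℕ → X.Modules) (m : ℕ) : 0 ≤ sq k n q f m := by rw [sq]; positivity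

theorem hhat_eq (n q : ℕ) (M : X.Modules) :
    W4c5asymptcohfn.hhat k X n q M = limsup (sq k n q fun m => CohB1.tensorPow M m) atTop := by
  simp only [W4c5asymptcohfn.hhat]
  congr 1
  funext m
  rw [sq, hd_def]

theorem hhatF_eq (n q : ℕ) (F M : X.Modules) :
    W4c5asymptcohfn.hhatF k X n q F M =
      limsup (sq k n q fun m => CohB1.tensorMod F (CohB1.tensorPow M m)) atTop := by
  simp only [W4c5asymptcohfn.hhatF]
  congr 1
  funext m
  rw [W4c5asymptcohfn.cohSeq, sq, hd_def]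

variable [IsAlgClosed k] [IsProper (X ↘ Spec (CommRingCat.of k))]

/-- An ample module gives a projective embedding. -/
theorem exists_proj (h : ∃ A : X.Modules, CohB1.IsAmple A) :
    ∃ (N : ℕ) (i : X ⟶ CohB1.ProjSpace N k), IsClosedImmersion i ∧
      i ≫ CohB1.ProjSpace.toSpec N k = X ↘ Spec (CommRingCat.of k) := by
  obtain ⟨A, hA⟩ := h
  obtain ⟨d, -, hd'⟩ := Groth.Agent.S9710.result (X ↘ Spec (CommRingCat.of k)) A hA
  obtain ⟨N, i, hi, hiq, -⟩ := Groth.L12.GenusZero.exists_closedImmersion_projSpace (hd' d le_rfl)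
  exact ⟨N, i, hi, hiq⟩

/-- The `ℕ`-valued distance of exponents. -/
def dist₁ {r : ℕ} (c c' : Fin r → ℕ) : ℕ := ∑ j, ((c j - c' j) + (c' j - c j))

/-- All the constants of a list of invertible modules. -/
theorem exists_est [IsIntegral X] (hproj : ∃ A : X.Modules, CohB1.IsAmple A) {n : ℕ}
    (hn : topologicalKrullDim X = n) {r : ℕ} (L : Fin r → X.Modules) (hL : ∀ j, PicF.IsInvertible (L j)) :
    ∃ (K : ℝ) (C C₀ : ℕ), 0 ≤ K ∧
      (∀ (c c' : Fin r → ℕ) (S : ℕ) (N M M' : X.Modules), ∑ j, c j ≤ S → ∑ j, c' j ≤ S → NT k N →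
        PicF.cl M = PicF.cl N * mon L c → PicF.cl M' = PicF.cl N * mon L c' → ∀ q,
        |(hd k q M : ℝ) - (hd k q M' : ℝ)| ≤ (dist₁ c c' : ℝ) * bd n K C S) ∧
      (∀ P : X.Modules, NT k P → ∃ C' : ℕ, ∀ S M, InWord k L S M → InWord k L S (CohB1.tensorMod M P) → ∀ q,
        |(hd k q (CohB1.tensorMod M P) : ℝ) - (hd k q M : ℝ)| ≤ bd n K C' S) ∧
      ∀ N : X.Modules, NT k N → ∀ q, hd k q N ≤ C₀ := by
  haveI := Groth.L21.RR.isNoetherian_of_proper (X := X) k
  obtain ⟨N₀, i, hi', hi⟩ := exists_proj k hproj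
  haveI := hi'
  obtain ⟨a, b, hLe, hP⟩ := exists_eff k i hi L hL
  obtain ⟨K, hK, hstep⟩ := exists_step k i hi hn (hP _ NT.unit) L hLe
  choose Cj hCj using fun j => hstep (L j) (hLe j)
  obtain ⟨C₀, hC₀⟩ := exists_hd_le k i hi (Groth.L18.Ample.isCoh_of_isInvertible
    (Groth.L18.Ample.isInvertible_structureModule X))
  refine ⟨K, ∑ j, Cj j, C₀, hK, ?_, fun P hPn => hstep P (hP P hPn), fun N hN q => ?_⟩
  swap
  · rw [← hd_iso k (tensorUnitLeft N) q]; exact hC₀ N hN q
  have up : ∀ D (c c' : Fin r → ℕ), c ≤ c' → ∑ j, (c' j - c j) = D → ∀ (S : ℕ) (N M M' : X.Modules),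
      ∑ j, c' j ≤ S → NT k N → PicF.cl M = PicF.cl N * mon L c → PicF.cl M' = PicF.cl N * mon L c' → ∀ q,
      |(hd k q M : ℝ) - (hd k q M' : ℝ)| ≤ (D : ℝ) * bd n K (∑ j, Cj j) S := by
    intro D
    induction D with
    | zero =>
      intro c c' hle hD S N M M' _ _ hM hM' q
      have : c = c' := funext fun j => le_antisymm (hle j)
        (Nat.sub_eq_zero_iff_le.1 (Finset.sum_eq_zero_iff.1 hD j (Finset.mem_univ j)))
      subst this
      obtain ⟨e⟩ := cl_iff.1 (hM.trans hM'.symm)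
      rw [hd_iso k e q]
      simp
    | succ D ih =>
      intro c c' hle hD S N M M' hS hN hM hM' q
      obtain ⟨j, hj⟩ : ∃ j, c j < c' j := by
        by_contra h
        push Not at h
        simp [fun j => Nat.sub_eq_zero_of_le (h j)] at hD
      let c₁ := c + Pi.single j 1
      have h₁le : c₁ ≤ c' := fun l => by
        by_cases h : l = j
        · subst h; simp [c₁]; omega
        · simpa [c₁, h] using hle l
      have hD₁ : ∑ l, (c' l - c₁ l) = D := by
        have : ∑ l, (c' l - c l) = ∑ l, (c' l - c₁ l) + ∑ l, (Pi.single j 1 : Fin r → ℕ) l := by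
          rw [← Finset.sum_add_distrib]
          refine Finset.sum_congr rfl fun l _ => ?_
          have := h₁le l
          simp only [c₁, Pi.add_apply] at this ⊢
          omega
        rw [hD, Finset.sum_pi_single', if_pos (Finset.mem_univ j)] at this
        omega
      have hM₁ : PicF.cl (CohB1.tensorMod M (L j)) = PicF.cl N * mon L c₁ := by
        rw [cl_mul, hM, mon_add, mon_single, pow_one, mul_assoc]
      have hs₁ : ∑ l, c₁ l ≤ S := (Finset.sum_le_sum fun l _ => h₁le l).trans hS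
      have h1 := hCj j S M ⟨c, N, (Finset.sum_le_sum fun l _ => hle l).trans hS, hN, hM⟩
        ⟨c₁, N, hs₁, hN, hM₁⟩ q
      have h2 := ih c₁ c' h₁le hD₁ S N _ M' hS hN hM₁ hM' q
      have h3 : bd n K (Cj j) S ≤ bd n K (∑ l, Cj l) S :=
        bd_mono (Finset.single_le_sum (f := Cj) (fun _ _ => Nat.zero_le _) (Finset.mem_univ j)) S
      have h4 := abs_le.1 h1
      have h5 := abs_le.1 h2
      rw [← bd] at h4
      push_cast
      rw [abs_le]
      constructor <;> linarith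
  intro c c' S N M M' hS hS' hN hM hM' q
  obtain ⟨M₀, hM₀⟩ := Quot.exists_rep (PicF.cl N * mon L (fun j => min (c j) (c' j)))
  have hM₀' : PicF.cl M₀ = PicF.cl N * mon L (fun j => min (c j) (c' j)) := hM₀
  have e1 := up _ (fun j => min (c j) (c' j)) c (fun j => min_le_left _ _) rfl S N M₀ M hS hN hM₀' hM q
  have e2 := up _ (fun j => min (c j) (c' j)) c' (fun j => min_le_right _ _) rfl S N M₀ M' hS' hN hM₀' hM' q
  have hd' : dist₁ c c' = (∑ j, (c j - min (c j) (c' j))) + ∑ j, (c' j - min (c j) (c' j)) := by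
    rw [dist₁, ← Finset.sum_add_distrib]
    exact Finset.sum_congr rfl fun j _ => by omega
  rw [hd', Nat.cast_add, add_mul]
  calc _ ≤ |(hd k q M : ℝ) - hd k q M₀| + |(hd k q M₀ : ℝ) - hd k q M'| := abs_sub_le _ _ _
    _ ≤ _ := add_le_add ((abs_sub_comm _ _).trans_le e1) e2

/-- Normalised dimensions along linearly growing words are bounded. -/
theorem exists_sq_le [IsIntegral X] (hproj : ∃ A : X.Modules, CohB1.IsAmple A) {n : ℕ}
    (hn : topologicalKrullDim X = n) {r : ℕ} (L : Fin r → X.Modules) (hL : ∀ j, PicF.IsInvertible (L j))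
    (f : ℕ → X.Modules) {s : ℕ} (hs : 1 ≤ s) (hf : ∀ m, InWord k L (s * m) (f m)) (q : ℕ) :
    ∃ B, ∀ᶠ m in atTop, sq k n q f m ≤ B := by
  obtain ⟨K, C, C₀, hK, hdist, -, h0⟩ := exists_est k hproj hn L hL
  have hlim := (tendsto_err n K C hs (s : ℝ) 0).add_const ((C₀ : ℝ) * n.factorial)
  refine ⟨(s : ℝ) * n * K * n.factorial * (s : ℝ) ^ (n - 1) + (C₀ : ℝ) * n.factorial + 1, ?_⟩
  filter_upwards [hlim.eventually_le_const (lt_add_one _), eventually_gt_atTop 0] with m h hm
  refine le_trans ?_ h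
  obtain ⟨c, N, hc, hN, hM⟩ := hf m
  have hd1 := hdist c 0 (s * m) N (f m) N hc (by simp) hN hM (by rw [mon_zero, mul_one]) q
  have hdd : dist₁ c 0 = ∑ j, c j := Finset.sum_congr rfl fun j _ => by simp
  rw [hdd] at hd1
  have hc' : ((∑ j, c j : ℕ) : ℝ) ≤ (s : ℝ) * m := by exact_mod_cast hc
  have h1 : (hd k q (f m) : ℝ) ≤ C₀ + ((s : ℝ) * m + 0) * bd n K C (s * m) := by
    have := (abs_le.1 hd1).2
    have := (Nat.cast_le (α := ℝ)).2 (h0 N hN q)
    have := mul_le_mul_of_nonneg_right hc' (bd_nonneg (n := n) hK C (s * m))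
    linarith
  have hp : (1 : ℝ) ≤ (m : ℝ) ^ n := one_le_pow₀ (by exact_mod_cast hm)
  calc sq k n q f m
      ≤ (C₀ + ((s : ℝ) * m + 0) * bd n K C (s * m)) * n.factorial / (m : ℝ) ^ n := by rw [sq]; gcongr
    _ = ((s : ℝ) * m + 0) * bd n K C (s * m) * n.factorial / (m : ℝ) ^ n +
        (C₀ : ℝ) * n.factorial / (m : ℝ) ^ n := by ring
    _ ≤ _ := add_le_add le_rfl (div_le_self (by positivity) hp)

/-- Close sequences of words have close upper limits. -/
theorem abs_limsup_sq_sub_le {n : ℕ} {K : ℝ} {C s : ℕ} (hs : 1 ≤ s) {α β : ℝ} {q : ℕ} {f g : ℕ → X.Modules}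
    (hg : ∃ B, ∀ᶠ m in atTop, sq k n q g m ≤ B)
    (h : ∀ᶠ m in atTop, |(hd k q (f m) : ℝ) - hd k q (g m)| ≤ (α * m + β) * bd n K C (s * m)) :
    |limsup (sq k n q f) atTop - limsup (sq k n q g) atTop| ≤ α * n * K * n.factorial * (s : ℝ) ^ (n - 1) := by
  obtain ⟨B, hB⟩ := hg
  refine abs_limsup_sub_le (sq_nonneg' k n q f) (sq_nonneg' k n q g) hB (tendsto_err n K C hs α β)
    (h.mono fun m hm => ?_)
  rw [sq, sq, ← sub_div, ← sub_mul, abs_div, abs_mul, abs_of_nonneg (show (0 : ℝ) ≤ (n.factorial : ℝ) by positivity),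
    abs_of_nonneg (show (0 : ℝ) ≤ (m : ℝ) ^ n by positivity)]
  gcongr

end Groth.L11.Asymp
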