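import Groth.Agent.L11.Asymp.Apps
import Groth.Agent.L22.Big.Volume

/-!
# The top asymptotic function vanishes on big modules
-/

set_option autoImplicit false
set_option backward.isDefEq.respectTransparency false
set_option linter.style.haveILetI false
set_option linter.unusedSectionVars false

universe u

open CategoryTheory CategoryTheory.Limits AlgebraicGeometry TopologicalSpace Filter
open scoped Topology

noncomputable section

namespace Groth.L11.Asymp

open Groth.L16 Groth.L22.Nef Groth.L22.Inter Groth.L03.Euler Groth.L22.Big Groth.L11.NumOrth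
open Groth.L00.Tensor (tensorIso tensorAssoc tensorComm tensorUnitRight tensorUnitLeft tensorRightF)

attribute [local instance] Groth.L08.Cube.clMonoid

variable (k : Type u) [Field k] [IsAlgClosed k] {X : Scheme.{u}} [X.Over (Spec (CommRingCat.of k))]
  [IsProper (X ↘ Spec (CommRingCat.of k))] [IsIntegral X]

/-- A big module has no asymptotic cohomology in top degree. -/
theorem hhat_top_eq_zero (hproj : ∃ A : X.Modules, CohB1.IsAmple A) {n : ℕ} (hn : topologicalKrullDim X = n)
    (hn1 : 1 ≤ n) {L : X.Modules} (hL : PicF.IsInvertible L)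
    (hbig : 0 < W4c5asymptcohfn.hhat k X n 0 L) : W4c5asymptcohfn.hhat k X n n L = 0 := by
  haveI := Groth.L21.RR.isNoetherian_of_proper (X := X) k
  obtain ⟨H, hH⟩ := hproj
  obtain ⟨d, rfl⟩ : ∃ d, n = d + 1 := ⟨n - 1, by omega⟩
  have hgrow : 0 < d + 1 → ∀ B : ℕ, ∃ m : ℕ, 0 < m ∧ B * (m + 2) ^ (d + 1 - 1) < h0 k (CohB1.tensorPow L m) := by
    intro _ B
    by_contra hb
    push Not at hb
    refine absurd hbig (not_lt.2 ?_)
    rw [hhat_eq]
    have hlim : Tendsto (fun m : ℕ => (B : ℝ) * ((m : ℝ) + 2) ^ d * ((d + 1).factorial : ℝ) / (m : ℝ) ^ (d + 1))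
        atTop (𝓝 0) := by
      have h1 : Tendsto (fun m : ℕ => (1 : ℝ) / m) atTop (𝓝 0) := tendsto_one_div_atTop_nhds_zero_nat
      have h := (((h1.const_mul (2 : ℝ)).const_add (1 : ℝ)).pow d).mul h1
      have h' := h.const_mul ((B : ℝ) * (d + 1).factorial)
      refine Tendsto.congr' ?_ (h'.trans_eq (by simp))
      filter_upwards [eventually_gt_atTop 0] with m hm
      have hm' : (0 : ℝ) < m := by exact_mod_cast hm
      rw [show (1 : ℝ) + 2 * (1 / m) = ((m : ℝ) + 2) / m by field_simp, div_pow, pow_succ (m : ℝ)]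
      field_simp
    refine (limsup_le_limsup ?_ (IsBoundedUnder.isCoboundedUnder_le
      ⟨0, eventually_map.2 (Eventually.of_forall (sq_nonneg' k (d + 1) 0 _))⟩) hlim.isBoundedUnder_le).trans
      hlim.limsup_eq.le
    filter_upwards [eventually_gt_atTop 0] with m hm
    rw [sq, hd_zero_eq]
    have h2 : (h0 k (CohB1.tensorPow L m) : ℝ) ≤ (B : ℝ) * ((m : ℝ) + 2) ^ d := by
      have := hb m hm
      rw [Nat.add_sub_cancel] at this
      exact_mod_cast this
    gcongr
  obtain ⟨ν, A, φ, hν, hA, hφ⟩ := exists_mono_of_growth k hH hL hn hgrow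
  haveI := hφ
  have hN := Groth.L18.Ample.isInvertible_tensorPow hL ν
  obtain ⟨A', hA', ⟨ι⟩, t, ht⟩ := exists_section_of_mono k hA.1 hN φ
  have hE : PicF.IsInvertible (CohB1.tensorMod (CohB1.tensorPow L ν) A') :=
    Groth.L18.GenLoc.isInvertible_tensor hN hA'
  choose z hz using fun c : ℕ => Rees.RelVanish.exists_vanishing (X ↘ Spec (CommRingCat.of k)) hA
    (Groth.L18.Ample.isCoh_of_isInvertible (Groth.L18.Ample.isInvertible_tensorPow hL c))
  rw [hhat_eq]
  refine (tendsto_const_nhds.congr' ?_).limsup_eq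
  filter_upwards [eventually_ge_atTop (ν * ((Finset.range ν).sup z + 1))] with m hm
  set q := m / ν with hq
  set c := m % ν with hc
  have hc' : c < ν := Nat.mod_lt m hν
  have hmq : ν * q + c = m := Nat.div_add_mod m ν
  have hq' : (Finset.range ν).sup z + 1 ≤ q := (Nat.le_div_iff_mul_le hν).2 (by rwa [mul_comm])
  have hzq : z c ≤ q := (Finset.le_sup (f := z) (Finset.mem_range.2 hc')).trans (Nat.le_of_succ_le hq')
  let G := CohB1.tensorMod (CohB1.tensorPow L c) (CohB1.tensorPow A q)
  have hG : PicF.IsInvertible G := Groth.L18.GenLoc.isInvertible_tensor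
    (Groth.L18.Ample.isInvertible_tensorPow hL c) (Groth.L18.Ample.isInvertible_tensorPow hA.1 q)
  obtain ⟨tq, htq⟩ := exists_generic_section_pow hE ht q
  have hEq := Groth.L18.Ample.isInvertible_tensorPow hE q
  haveI := mono_mulSection k hG tq htq
  have hGE := Groth.L18.GenLoc.isInvertible_tensor hG hEq
  obtain ⟨hQ, hQη⟩ := cokernel_facts k hG hGE (mulSection G tq)
  have hS : (ShortComplex.mk (mulSection G tq) (cokernel.π _) (cokernel.condition _)).ShortExact :=
    { exact := ShortComplex.exact_cokernel _ }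
  have h1 : hd k (d + 1) G = 0 := hd_of_subsingleton k (hz c q hzq (d + 1) (Nat.succ_pos d))
  have h2 : hd k (d + 1) (cokernel (mulSection G tq)) = 0 :=
    hd_of_subsingleton k (subsingleton_HH_of_support k hQ
      (dim_le_of_generic_notMem (CohSupport.isClosed_support _ hQ.2) hQη hn.le) (Nat.lt_succ_self d))
  have h3 := hd_mid_le k hS (Groth.L18.Ample.isCoh_of_isInvertible hG)
    (Groth.L18.Ample.isCoh_of_isInvertible hGE) hQ (d + 1)
  obtain ⟨e⟩ : Nonempty (CohB1.tensorMod G (CohB1.tensorPow (CohB1.tensorMod (CohB1.tensorPow L ν) A') q) ≅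
      CohB1.tensorPow L m) := by
    have hAA : PicF.cl A * PicF.cl A' = 1 := (cl_mul _ _).symm.trans ((cl_iff.2 ⟨ι⟩).trans cl_O)
    refine cl_iff.1 ?_
    simp only [G, cl_mul, cl_pow, mul_pow]
    calc _ = (PicF.cl A * PicF.cl A') ^ q * (PicF.cl L ^ c * (PicF.cl L ^ ν) ^ q) := by
          rw [mul_pow]; ac_rfl
      _ = _ := by rw [hAA, one_pow, one_mul, ← pow_mul, ← pow_add, add_comm, hmq]
  simp only at h3
  rw [sq, ← hd_iso k e, show hd k (d + 1) (CohB1.tensorMod G (CohB1.tensorPow _ q)) = 0 by omega]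
  simp

end Groth.L11.Asymp
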